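import Mathlib.RingTheory.Henselian
import Mathlib.Algebra.Polynomial.Lifts

/-!
# Filtered unions of Henselian pairs
-/

set_option autoImplicit false
universe u v

namespace K941.HensColim

open Polynomial

variable {A S : Type u} [CommRing A] [CommRing S] {I : Ideal A} {φ : A →+* S}
  {ι : Type v} {G : ι → Type u} [∀ i, CommRing (G i)] {γ : ∀ i, A →+* G i} {o : ∀ i, G i →+* S}

theorem exists_lift_mem (ho : ∀ i, (o i).comp (γ i) = φ) (x : S) (hx : x ∈ I.map φ) :
    ∃ s : Finset S, ∀ i, (∀ z ∈ s, z ∈ Set.range (o i)) → ∃ y ∈ I.map (γ i), o i y = x := by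
  classical
  induction hx using Submodule.span_induction with
  | mem x h =>
    obtain ⟨a, ha, rfl⟩ := h
    refine ⟨∅, fun i _ => ⟨γ i a, Ideal.mem_map_of_mem _ ha, ?_⟩⟩
    rw [← ho i]; rfl
  | zero => exact ⟨∅, fun i _ => ⟨0, Ideal.zero_mem _, map_zero _⟩⟩
  | add x y _ _ hx hy =>
    obtain ⟨s, hs⟩ := hx
    obtain ⟨t, ht⟩ := hy
    refine ⟨s ∪ t, fun i h => ?_⟩
    obtain ⟨x', hx', rfl⟩ := hs i fun z hz => h z (Finset.mem_union_left _ hz)
    obtain ⟨y', hy', rfl⟩ := ht i fun z hz => h z (Finset.mem_union_right _ hz)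
    exact ⟨x' + y', add_mem hx' hy', map_add _ _ _⟩
  | smul c x _ hx =>
    obtain ⟨s, hs⟩ := hx
    refine ⟨insert c s, fun i h => ?_⟩
    obtain ⟨x', hx', rfl⟩ := hs i fun z hz => h z (Finset.mem_insert_of_mem hz)
    obtain ⟨c', rfl⟩ := h c (Finset.mem_insert_self _ _)
    exact ⟨c' * x', Ideal.mul_mem_left _ _ hx', map_mul _ _ _⟩

/-- If `S` is a filtered union of `A`-algebras `G i` such that each `(G i, I G i)` is Henselian, then
`(S, I S)` is Henselian. -/
theorem henselianRing (ho : ∀ i, (o i).comp (γ i) = φ)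
    (hh : ∀ i, HenselianRing (G i) (I.map (γ i)))
    (H1 : ∀ s : Finset S, ∃ i, ∀ x ∈ s, x ∈ Set.range (o i))
    (H2 : ∀ i (t : Finset (G i)), (∀ x ∈ t, o i x = 0) →
      ∃ (j : ι) (f : G i →+* G j), (o j).comp f = o i ∧ f.comp (γ i) = γ j ∧ ∀ x ∈ t, f x = 0) :
    HenselianRing S (I.map φ) := by
  classical
  constructor
  · intro x hx
    rw [Ideal.mem_jacobson_bot]
    intro y
    obtain ⟨s, hs⟩ := exists_lift_mem ho x hx
    obtain ⟨i, hi⟩ := H1 (insert y s)
    obtain ⟨x', hx', rfl⟩ := hs i fun z hz => hi z (Finset.mem_insert_of_mem hz)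
    obtain ⟨y', rfl⟩ := hi y (Finset.mem_insert_self _ _)
    have h1 := (hh i).jac hx'
    rw [Ideal.mem_jacobson_bot] at h1
    have h2 := (h1 y').map (o i)
    rwa [map_add, map_mul, map_one] at h2
  · intro g hg a₀ h1 h2
    obtain ⟨b, hb⟩ := isUnit_iff_exists_inv.mp h2
    obtain ⟨b, rfl⟩ := Ideal.Quotient.mk_surjective b
    rw [← map_mul, ← map_one (Ideal.Quotient.mk _), Ideal.Quotient.eq] at hb
    obtain ⟨s₁, hs₁⟩ := exists_lift_mem ho _ h1
    obtain ⟨s₂, hs₂⟩ := exists_lift_mem ho _ hb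
    obtain ⟨i, hi⟩ := H1 (g.coeffs ∪ {a₀, b} ∪ s₁ ∪ s₂)
    simp only [Finset.mem_union, Finset.mem_insert, Finset.mem_singleton] at hi
    obtain ⟨Y, hYI, hY⟩ := hs₁ i fun z hz => hi z (by tauto)
    obtain ⟨Z, hZI, hZ⟩ := hs₂ i fun z hz => hi z (by tauto)
    obtain ⟨α, rfl⟩ := hi a₀ (by tauto)
    obtain ⟨β, rfl⟩ := hi b (by tauto)
    have hlifts : g ∈ Polynomial.lifts (o i) := by
      rw [Polynomial.lifts_iff_coeff_lifts]
      intro n
      by_cases hn : g.coeff n = 0
      · exact ⟨0, by rw [hn, map_zero]⟩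
      · exact hi _ (Or.inl (Or.inl (Or.inl (Polynomial.coeff_mem_coeffs hn))))
    obtain ⟨P, hP, -, hPm⟩ := Polynomial.lifts_and_natDegree_eq_and_monic hlifts hg
    have e1 : o i (P.eval α - Y) = 0 := by
      rw [map_sub, ← Polynomial.eval_map_apply, hP, hY, sub_self]
    have e2 : o i (P.derivative.eval α * β - 1 - Z) = 0 := by
      rw [map_sub, map_sub, map_mul, ← Polynomial.eval_map_apply, ← Polynomial.derivative_map, hP,
        hZ, map_one, sub_self]
    obtain ⟨j, f, hf1, hf2, hf3⟩ := H2 i {P.eval α - Y, P.derivative.eval α * β - 1 - Z} (by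
      intro x hx
      simp only [Finset.mem_insert, Finset.mem_singleton] at hx
      rcases hx with rfl | rfl
      · exact e1
      · exact e2)
    have e1m := hf3 (P.eval α - Y) (by simp)
    have e2m := hf3 (P.derivative.eval α * β - 1 - Z) (by simp)
    have hfI : ∀ x ∈ I.map (γ i), f x ∈ I.map (γ j) := by
      intro x hx
      rw [← hf2, ← Ideal.map_map]
      exact Ideal.mem_map_of_mem f hx
    have r1 : (P.map f).eval (f α) ∈ I.map (γ j) := by
      rw [Polynomial.eval_map_apply]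
      rw [map_sub, sub_eq_zero] at e1m
      rw [e1m]
      exact hfI _ hYI
    have r2 : IsUnit (Ideal.Quotient.mk (I.map (γ j)) ((P.map f).derivative.eval (f α))) := by
      rw [Polynomial.derivative_map, Polynomial.eval_map_apply]
      rw [map_sub, sub_eq_zero] at e2m
      apply isUnit_iff_exists_inv.mpr
      refine ⟨Ideal.Quotient.mk (I.map (γ j)) (f β), ?_⟩
      rw [← map_mul, ← map_one (Ideal.Quotient.mk (I.map (γ j))), Ideal.Quotient.eq, ← map_mul,
        ← map_one f, ← map_sub, e2m]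
      exact hfI _ hZI
    obtain ⟨t, ht1, ht2⟩ := (hh j).is_henselian (P.map f) (hPm.map _) (f α) r1 r2
    refine ⟨o j t, ?_, ?_⟩
    · have : g = (P.map f).map (o j) := by rw [Polynomial.map_map, hf1, hP]
      rw [this, Polynomial.IsRoot, Polynomial.eval_map_apply, ht1, map_zero]
    · have h3 : o i α = o j (f α) := by rw [← hf1]; rfl
      rw [h3, ← map_sub, ← ho j, ← Ideal.map_map]
      exact Ideal.mem_map_of_mem (o j) ht2

end K941.HensColim
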