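import Groth.Agent.HensSch.K941.SphBasic
import Groth.Agent.HensSch.K941.HensColim
import Mathlib.RingTheory.RingHom.Flat

/-!
# Local rings of affine Henselian spectra

For `(X, π)` the affine Henselian spectrum of `(A, I)` and `x : X`, the local ring `O_{X,x}` is the
henselization of the pair `(A_p, I A_p)` with `p = π x`.
-/

set_option autoImplicit false
universe u
open CategoryTheory AlgebraicGeometry Opposite TopologicalSpace

namespace K941.Sph

section Spec

variable {A : Type u} [CommRing A]

/-- The map from `A` to the local ring of `Spec A` at `p`. -/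
noncomputable def specStalk (p : PrimeSpectrum A) :
    A →+* (HensSch.specLRS A).presheaf.stalk p :=
  ((HensSch.specLRS A).presheaf.germ ⊤ p trivial).hom.comp
    (Scheme.ΓSpecIso (CommRingCat.of A)).inv.hom

theorem specStalk_isLocalization (p : PrimeSpectrum A) :
    @IsLocalization.AtPrime A _ ((HensSch.specLRS A).presheaf.stalk p) _
      (specStalk p).toAlgebra p.asIdeal _ :=
  (inferInstance : IsLocalization.AtPrime ((Spec.structureSheaf A).presheaf.stalk p) p.asIdeal)

theorem isUnit_specStalk (p : PrimeSpectrum A) (f : A) (hf : f ∉ p.asIdeal) :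
    IsUnit (specStalk p f) :=
  letI := (specStalk p).toAlgebra
  haveI := specStalk_isLocalization p
  IsLocalization.map_units ((HensSch.specLRS A).presheaf.stalk p) (⟨f, hf⟩ : p.asIdeal.primeCompl)

theorem specStalk_ringHom_ext {p : PrimeSpectrum A} {C : Type*} [CommRing C]
    {g h : (HensSch.specLRS A).presheaf.stalk p →+* C}
    (e : g.comp (specStalk p) = h.comp (specStalk p)) : g = h :=
  letI := (specStalk p).toAlgebra
  haveI := specStalk_isLocalization p
  IsLocalization.ringHom_ext p.asIdeal.primeCompl e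

end Spec

variable {A : Type u} [CommRing A] {X : LocallyRingedSpace.{u}} (π : X ⟶ HensSch.specLRS A)

/-- The map from `A` to the local ring at `x`. -/
noncomputable def toStalk (x : X) : A →+* X.presheaf.stalk x :=
  (π.stalkMap x).hom.comp (specStalk (π.base x))

theorem germ_stalkMap {X Y : LocallyRingedSpace.{u}} (f : X ⟶ Y) (V : Opens Y) (x : X)
    (hV : f.base x ∈ V) (r : Y.presheaf.obj (op V)) :
    f.stalkMap x (Y.presheaf.germ V (f.base x) hV r) =
      X.presheaf.germ ((Opens.map f.base).obj V) x hV (f.c.app (op V) r) :=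
  ConcreteCategory.congr_hom (PresheafedSpace.stalkMap_germ f.toHom V x hV) r

theorem germ_secMap (U : Opens (PrimeSpectrum A)) (x : X) (hx : x ∈ (Opens.map π.base).obj U)
    (a : A) : X.presheaf.germ _ x hx (HensSch.secMap π U a) = toStalk π x a := by
  refine (TopCat.Presheaf.germ_res_apply X.presheaf
    ((Opens.map π.base).map (homOfLE (le_top : U ≤ ⊤))) x hx _).trans ?_
  exact (germ_stalkMap π ⊤ x trivial ((Scheme.ΓSpecIso (CommRingCat.of A)).inv a)).symm

theorem germ_comp_secMap (U : Opens (PrimeSpectrum A)) (x : X)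
    (hx : x ∈ (Opens.map π.base).obj U) :
    (X.presheaf.germ _ x hx).hom.comp (HensSch.secMap π U) = toStalk π x :=
  RingHom.ext fun a => germ_secMap π U x hx a

variable {π}

section Univ

variable {I : Ideal A} (h : HensSch.IsSph A I X π) (x : X)

include h in
/-- `(O_{X,x}, I O_{X,x})` is a Henselian pair. -/
theorem henselianRing_stalk : HenselianRing (X.presheaf.stalk x) (I.map (toStalk π x)) := by
  classical
  refine HensColim.henselianRing (ι := {f : A // x ∈ HensSch.dOpen π f})
    (G := fun f => X.presheaf.obj (op (HensSch.dOpen π f.1)))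
    (γ := fun f => HensSch.secMap π (PrimeSpectrum.basicOpen f.1))
    (o := fun f => (X.presheaf.germ _ x f.2).hom) (fun f => germ_comp_secMap π _ x f.2)
    (fun f => (h.2.2 f.1).2.1) ?_ ?_
  · intro s
    induction s using Finset.induction_on with
    | empty => exact ⟨⟨1, fun h' => (π.base x).2.ne_top ((Ideal.eq_top_iff_one _).mpr h')⟩, by simp⟩
    | insert a s ha hs =>
      obtain ⟨⟨f, hf⟩, hf'⟩ := hs
      obtain ⟨U, hU, t, rfl⟩ := TopCat.Presheaf.exists_germ_eq X.presheaf a
      obtain ⟨g, hg, hg'⟩ := exists_dOpen_le h (U ⊓ HensSch.dOpen π f) x ⟨hU, hf⟩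
      refine ⟨⟨g, hg⟩, fun z hz => ?_⟩
      rcases Finset.mem_insert.mp hz with rfl | hz
      · exact ⟨X.presheaf.map (homOfLE (hg'.trans inf_le_left)).op t,
          TopCat.Presheaf.germ_res_apply X.presheaf _ x hg t⟩
      · obtain ⟨y, rfl⟩ := hf' z hz
        exact ⟨X.presheaf.map (homOfLE (hg'.trans inf_le_right)).op y,
          TopCat.Presheaf.germ_res_apply X.presheaf _ x hg y⟩
  · intro f t ht
    induction t using Finset.induction_on with
    | empty => exact ⟨f, RingHom.id _, rfl, rfl, by simp⟩
    | insert a t ha hs =>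
      obtain ⟨j, ψ, h1, h2, h3⟩ := hs fun x hx => ht x (Finset.mem_insert_of_mem hx)
      have h4 : (X.presheaf.germ _ x j.2) (ψ a) = (X.presheaf.germ _ x j.2) 0 := by
        have := congrArg (fun k => k a) h1
        change (X.presheaf.germ _ x j.2) (ψ a) = (X.presheaf.germ _ x f.2) a at this
        rw [this, map_zero]
        exact ht a (Finset.mem_insert_self _ _)
      obtain ⟨W, hW, i₁, i₂, h5⟩ := TopCat.Presheaf.germ_eq X.presheaf x j.2 j.2 (ψ a) 0 h4
      obtain ⟨g, hg, hg'⟩ := exists_dOpen_le h W x hW
      let r : HensSch.dOpen π g ⟶ HensSch.dOpen π j.1 := homOfLE (hg'.trans (leOfHom i₁))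
      refine ⟨⟨g, hg⟩, (X.presheaf.map r.op).hom.comp ψ, ?_, ?_, ?_⟩
      · rw [← h1]
        ext y
        exact TopCat.Presheaf.germ_res_apply X.presheaf r x hg (ψ y)
      · rw [RingHom.comp_assoc, h2]
        ext a
        exact (secMap_res' π (U := PrimeSpectrum.basicOpen j.1) (V := PrimeSpectrum.basicOpen g)
          (W := HensSch.dOpen π g) r (𝟙 _) a).trans
          (ConcreteCategory.congr_hom (X.presheaf.map_id _) _)
      · intro y hy
        rcases Finset.mem_insert.mp hy with rfl | hy
        · change X.presheaf.map r.op (ψ y) = 0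
          have h6 : r = homOfLE hg' ≫ i₁ := Subsingleton.elim _ _
          rw [h6, op_comp, X.presheaf.map_comp]
          change X.presheaf.map (homOfLE hg').op (X.presheaf.map i₁.op (ψ y)) = 0
          rw [h5, map_zero, map_zero]
        · change X.presheaf.map r.op (ψ y) = 0
          rw [h3 y hy, map_zero]

include h in
theorem exists_germ_dOpen (t : X.presheaf.stalk x) :
    ∃ (f : A) (hf : x ∈ HensSch.dOpen π f) (s : X.presheaf.obj (op (HensSch.dOpen π f))),
      X.presheaf.germ _ x hf s = t := by
  obtain ⟨U, hU, t, rfl⟩ := TopCat.Presheaf.exists_germ_eq X.presheaf t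
  obtain ⟨g, hg, hg'⟩ := exists_dOpen_le h U x hU
  exact ⟨g, hg, X.presheaf.map (homOfLE hg').op t,
    TopCat.Presheaf.germ_res_apply X.presheaf _ x hg t⟩

variable {C : Type u} [CommRing C] {J : Ideal C} (hC : HenselianRing C J)
    (g : A →+* C) (hg : I.map g ≤ J) (hu : ∀ f ∉ (π.base x).asIdeal, IsUnit (g f))

/-- The map out of `O(D(f))`. -/
noncomputable def kf (f : A) (hf : x ∈ HensSch.dOpen π f) :
    X.presheaf.obj (op (HensSch.dOpen π f)) →+* C :=
  ((h.2.2 f).2.2 C J g hC hg (hu f hf)).choose

theorem kf_comp (f : A) (hf : x ∈ HensSch.dOpen π f) :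
    (kf h x hC g hg hu f hf).comp (HensSch.secMap π (PrimeSpectrum.basicOpen f)) = g :=
  ((h.2.2 f).2.2 C J g hC hg (hu f hf)).choose_spec.1

theorem kf_unique (f : A) (hf : x ∈ HensSch.dOpen π f)
    (k : X.presheaf.obj (op (HensSch.dOpen π f)) →+* C)
    (hk : k.comp (HensSch.secMap π (PrimeSpectrum.basicOpen f)) = g) :
    k = kf h x hC g hg hu f hf :=
  ((h.2.2 f).2.2 C J g hC hg (hu f hf)).choose_spec.2 k hk

theorem kf_res (f f' : A) (hf : x ∈ HensSch.dOpen π f) (hf' : x ∈ HensSch.dOpen π f')
    (r : HensSch.dOpen π f' ⟶ HensSch.dOpen π f) (s : X.presheaf.obj (op (HensSch.dOpen π f))) :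
    kf h x hC g hg hu f' hf' (X.presheaf.map r.op s) = kf h x hC g hg hu f hf s := by
  have := kf_unique h x hC g hg hu f hf
    ((kf h x hC g hg hu f' hf').comp (X.presheaf.map r.op).hom) (by
      refine Eq.trans ?_ (kf_comp h x hC g hg hu f' hf')
      rw [RingHom.comp_assoc]
      congr 1
      ext a
      exact (secMap_res' π (U := PrimeSpectrum.basicOpen f) (V := PrimeSpectrum.basicOpen f')
          (W := HensSch.dOpen π f') r (𝟙 _) a).trans
          (ConcreteCategory.congr_hom (X.presheaf.map_id _) _))
  rw [← this]; rfl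

theorem kf_eq (f f' : A) (hf : x ∈ HensSch.dOpen π f) (hf' : x ∈ HensSch.dOpen π f')
    (s : X.presheaf.obj (op (HensSch.dOpen π f))) (s' : X.presheaf.obj (op (HensSch.dOpen π f')))
    (e : X.presheaf.germ _ x hf s = X.presheaf.germ _ x hf' s') :
    kf h x hC g hg hu f hf s = kf h x hC g hg hu f' hf' s' := by
  obtain ⟨W, hW, i₁, i₂, h5⟩ := TopCat.Presheaf.germ_eq X.presheaf x hf hf' s s' e
  obtain ⟨a, ha, ha'⟩ := exists_dOpen_le h W x hW
  rw [← kf_res h x hC g hg hu f a hf ha (homOfLE ha' ≫ i₁),
    ← kf_res h x hC g hg hu f' a hf' ha (homOfLE ha' ≫ i₂), op_comp, op_comp,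
    X.presheaf.map_comp, X.presheaf.map_comp]
  exact congrArg (fun z => kf h x hC g hg hu a ha (X.presheaf.map (homOfLE ha').op z)) h5

/-- The map out of the sections over a neighbourhood of `x`. -/
noncomputable def kU (U : Opens X) (hU : x ∈ U) : X.presheaf.obj (op U) →+* C :=
  (kf h x hC g hg hu (exists_dOpen_le h U x hU).choose
    (exists_dOpen_le h U x hU).choose_spec.1).comp
    (X.presheaf.map (homOfLE (exists_dOpen_le h U x hU).choose_spec.2).op).hom

theorem kU_eq (U : Opens X) (hU : x ∈ U) (s : X.presheaf.obj (op U)) (f : A)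
    (hf : x ∈ HensSch.dOpen π f) (s' : X.presheaf.obj (op (HensSch.dOpen π f)))
    (e : X.presheaf.germ _ x hU s = X.presheaf.germ _ x hf s') :
    kU h x hC g hg hu U hU s = kf h x hC g hg hu f hf s' := by
  refine kf_eq h x hC g hg hu _ f _ hf _ s' ?_
  rw [← e]
  exact TopCat.Presheaf.germ_res_apply X.presheaf _ x _ s

/-- The cocone used to define the map out of the local ring. -/
noncomputable def kCocone : Limits.Cocone ((OpenNhds.inclusion x).op ⋙ X.presheaf) :=
    (Limits.Cocone.mk (CommRingCat.of C)
      { app := fun U => CommRingCat.ofHom (kU h x hC g hg hu U.unop.1 U.unop.2)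
        naturality := fun U V i => by
          ext s
          obtain ⟨f, hf, hf'⟩ := exists_dOpen_le h V.unop.1 x V.unop.2
          have e1 := kU_eq h x hC g hg hu V.unop.1 V.unop.2
            (X.presheaf.map ((OpenNhds.inclusion x).map i.unop).op s) f hf
            (X.presheaf.map (homOfLE hf').op
              (X.presheaf.map ((OpenNhds.inclusion x).map i.unop).op s))
            (TopCat.Presheaf.germ_res_apply X.presheaf _ x hf _).symm
          have e2 := kU_eq h x hC g hg hu U.unop.1 U.unop.2 s f hf
            (X.presheaf.map (homOfLE hf').op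
              (X.presheaf.map ((OpenNhds.inclusion x).map i.unop).op s))
            (by
              rw [TopCat.Presheaf.germ_res_apply X.presheaf _ x hf _]
              exact (TopCat.Presheaf.germ_res_apply X.presheaf
                ((OpenNhds.inclusion x).map i.unop) x V.unop.2 s).symm)
          exact e1.trans e2.symm })

/-- The map out of the local ring. -/
noncomputable def kStalk : X.presheaf.stalk x →+* C :=
  (Limits.colimit.desc ((OpenNhds.inclusion x).op ⋙ X.presheaf) (kCocone h x hC g hg hu)).hom

theorem kStalk_germ (f : A) (hf : x ∈ HensSch.dOpen π f)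
    (s : X.presheaf.obj (op (HensSch.dOpen π f))) :
    kStalk h x hC g hg hu (X.presheaf.germ _ x hf s) = kf h x hC g hg hu f hf s := by
  have h1 := ConcreteCategory.congr_hom (Limits.colimit.ι_desc
    (F := (OpenNhds.inclusion x).op ⋙ X.presheaf) (kCocone h x hC g hg hu)
    (op ⟨HensSch.dOpen π f, hf⟩)) s
  refine Eq.trans h1 ?_
  exact kU_eq h x hC g hg hu _ hf s f hf s rfl

theorem kStalk_comp : (kStalk h x hC g hg hu).comp (toStalk π x) = g := by
  have h1 : x ∈ HensSch.dOpen π (1 : A) :=
    fun h' => (π.base x).2.ne_top ((Ideal.eq_top_iff_one _).mpr h')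
  ext a
  rw [RingHom.comp_apply, ← germ_secMap π (PrimeSpectrum.basicOpen 1) x h1 a, kStalk_germ]
  exact congrArg (fun k => k a) (kf_comp h x hC g hg hu 1 h1)

theorem kStalk_unique (k : X.presheaf.stalk x →+* C) (hk : k.comp (toStalk π x) = g) :
    k = kStalk h x hC g hg hu := by
  ext t
  obtain ⟨f, hf, s, rfl⟩ := exists_germ_dOpen h x t
  rw [kStalk_germ, ← kf_unique h x hC g hg hu f hf (k.comp (X.presheaf.germ _ x hf).hom)]
  · rfl
  · rw [RingHom.comp_assoc, germ_comp_secMap, hk]

include h hC hg hu in
/-- The universal property of the local ring `O_{X,x}`. -/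
theorem existsUnique_stalk : ∃! k : X.presheaf.stalk x →+* C, k.comp (toStalk π x) = g :=
  ⟨kStalk h x hC g hg hu, kStalk_comp h x hC g hg hu, kStalk_unique h x hC g hg hu⟩

end Univ

section Pair

variable {I : Ideal A} (h : HensSch.IsSph A I X π) (x : X)

/-- The map of local rings `A_p → O_{X,x}` as an algebra structure. -/
noncomputable abbrev stalkAlg :
    Algebra ((HensSch.specLRS A).presheaf.stalk (π.base x)) (X.presheaf.stalk x) :=
  (π.stalkMap x).hom.toAlgebra

include h in
/-- The local ring `O_{X,x}` is the henselization of the pair `(A_p, I A_p)`. -/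
theorem isPairHenselization_stalk :
    letI := stalkAlg (π := π) x
    Hens2.IsPairHenselization ((HensSch.specLRS A).presheaf.stalk (π.base x))
      (I.map (specStalk (π.base x))) (X.presheaf.stalk x) := by
  let _ := stalkAlg (π := π) x
  refine ⟨?_, ?_⟩
  · rw [Ideal.map_map]
    exact henselianRing_stalk h x
  · intro C _ J g hC hg
    rw [Ideal.map_map] at hg
    obtain ⟨k, hk, huniq⟩ := existsUnique_stalk h x hC (g.comp (specStalk (π.base x))) hg
      (fun f hf => (isUnit_specStalk _ f hf).map g)
    refine ⟨k, specStalk_ringHom_ext ?_, fun k' hk' => huniq k' ?_⟩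
    · rw [RingHom.comp_assoc]; exact hk
    · change (k'.comp (algebraMap _ _)).comp (specStalk (π.base x)) = _
      rw [hk']

include h in
/-- The map of local rings `A_p → O_{X,x}` is flat. -/
theorem flat_stalkMap : (π.stalkMap x).hom.Flat :=
  letI := stalkAlg (π := π) x
  Groth.Agent.Etalg.PairHens2.flat _ (isPairHenselization_stalk h x)

end Pair

end K941.Sph
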