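import Groth.Agent.HensSch.K941.Sky
import Groth.Agent.CycB.StalkExact

/-!
# Exactness of stalks of sheaves of modules on a locally ringed space
-/

set_option autoImplicit false
set_option linter.unusedVariables false
universe u
open CategoryTheory CategoryTheory.Limits AlgebraicGeometry TopologicalSpace Opposite

namespace K941.StalkExact

open K941.Sky

variable {X : LocallyRingedSpace.{u}}

theorem toSheaf_preservesFiniteColimits (X : LocallyRingedSpace.{u}) :
    PreservesFiniteColimits (SheafOfModules.toSheaf.{u} (ModSite.ringSh X.sheaf)) where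
  preservesFiniteColimits J _ _ :=
    Groth.Agent.CycB.StalkExact.toSheaf_preservesColimitsOfShape (ModSite.ringSh X.sheaf) J

/-- The stalk functor on `O_X`-modules, with values in abelian groups. -/
noncomputable def stalkFun (x : X) : SMod X ⥤ Ab.{u} :=
  SheafOfModules.toSheaf.{u} (ModSite.ringSh X.sheaf) ⋙
    (TopCat.Sheaf.forget Ab.{u} X.toTopCat ⋙ TopCat.Presheaf.stalkFunctor Ab.{u} x)

theorem forget_stalkFunctor_preservesFiniteLimits (X : TopCat.{u}) (x : X) : PreservesFiniteLimits
    (TopCat.Sheaf.forget Ab.{u} X ⋙ TopCat.Presheaf.stalkFunctor Ab.{u} x) := inferInstance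

theorem forget_stalkFunctor_preservesFiniteColimits (X : TopCat.{u}) (x : X) :
    PreservesFiniteColimits
    (TopCat.Sheaf.forget Ab.{u} X ⋙ TopCat.Presheaf.stalkFunctor Ab.{u} x) := inferInstance

instance stalkFun_preservesFiniteLimits (x : X) : PreservesFiniteLimits (stalkFun x) :=
  @comp_preservesFiniteLimits _ _ _ _ _ _ (SheafOfModules.toSheaf.{u} (ModSite.ringSh X.sheaf))
    (TopCat.Sheaf.forget Ab.{u} X.toTopCat ⋙ TopCat.Presheaf.stalkFunctor Ab.{u} x) inferInstance
    (forget_stalkFunctor_preservesFiniteLimits X.toTopCat x)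

instance stalkFun_preservesFiniteColimits (x : X) : PreservesFiniteColimits (stalkFun x) :=
  @comp_preservesFiniteColimits _ _ _ _ _ _ (SheafOfModules.toSheaf.{u} (ModSite.ringSh X.sheaf))
    (TopCat.Sheaf.forget Ab.{u} X.toTopCat ⋙ TopCat.Presheaf.stalkFunctor Ab.{u} x)
    (toSheaf_preservesFiniteColimits X) (forget_stalkFunctor_preservesFiniteColimits X.toTopCat x)

instance stalkFun_additive (x : X) : (stalkFun x).Additive :=
  Functor.additive_of_preserves_binary_products _

theorem coe_stalkMap {M N : SMod X} (φ : M ⟶ N) (x : X) (t : (pr M).stalk x) :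
    stalkMap φ x t = ((stalkFun x).map φ).hom t := stalkMap_eq φ x t

theorem stalkMap_injective {M N : SMod X} (φ : M ⟶ N) [Mono φ] (x : X) :
    Function.Injective (stalkMap φ x) := by
  have : Mono ((stalkFun x).map φ) := inferInstance
  have h := (AddCommGrpCat.mono_iff_injective _).mp this
  intro a b hab
  rw [coe_stalkMap, coe_stalkMap] at hab
  exact h hab

theorem stalkMap_surjective {M N : SMod X} (φ : M ⟶ N) [Epi φ] (x : X) :
    Function.Surjective (stalkMap φ x) := by
  have : Epi ((stalkFun x).map φ) := inferInstance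
  have h := (AddCommGrpCat.epi_iff_surjective _).mp this
  intro b
  obtain ⟨a, ha⟩ := h b
  exact ⟨a, (coe_stalkMap φ x a).trans ha⟩

theorem stalkMap_exact (T : ShortComplex (SMod X)) (hT : T.Exact) (x : X) :
    Function.Exact (stalkMap T.f x) (stalkMap T.g x) := by
  have h : (T.map (stalkFun x)).Exact := hT.map (stalkFun x)
  rw [ShortComplex.ab_exact_iff_function_exact] at h
  intro b
  rw [coe_stalkMap]
  refine (h b).trans ?_
  constructor
  · rintro ⟨a, ha⟩; exact ⟨a, (coe_stalkMap T.f x a).trans ha⟩
  · rintro ⟨a, ha⟩; exact ⟨a, (coe_stalkMap T.f x a).symm.trans ha⟩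

/-- Sections of a sheaf of modules are determined by their germs. -/
theorem section_ext (M : SMod X) (U : Opens X) (s t : (pr M).obj (op U))
    (h : ∀ (x : X) (hx : x ∈ U), (pr M).germ U x hx s = (pr M).germ U x hx t) : s = t :=
  TopCat.Presheaf.section_ext (⟨pr M, M.isSheaf⟩ : TopCat.Sheaf Ab.{u} X.toTopCat) U s t h

/-- Morphisms of modules are determined by their stalks. -/
theorem hom_ext_stalk {M N : SMod X} {φ ψ : M ⟶ N} (h : ∀ x, stalkMap φ x = stalkMap ψ x) :
    φ = ψ := by
  apply Sky.hom_ext
  intro U
  ext s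
  apply section_ext N U
  intro x hx
  have := LinearMap.congr_fun (h x) ((pr M).germ U x hx s)
  exact ((stalkMap_germ φ x U hx s).symm.trans this).trans (stalkMap_germ ψ x U hx s)

theorem stalkMap_zero (M N : SMod X) (x : X) : stalkMap (0 : M ⟶ N) x = 0 := by
  ext t
  rw [coe_stalkMap, Functor.map_zero]
  rfl

theorem isZero_iff_subsingleton_stalk (M : SMod X) :
    IsZero M ↔ ∀ x : X, Subsingleton ((pr M).stalk x) := by
  constructor
  · intro h x
    have h1 : 𝟙 M = 0 := h.eq_of_src _ _
    refine ⟨fun a b => ?_⟩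
    have key : ∀ a : (pr M).stalk x, a = 0 := fun a => by
      have := LinearMap.congr_fun (congrArg (fun φ => stalkMap φ x) h1) a
      simp only [stalkMap_id, stalkMap_zero] at this
      exact this
    rw [key a, key b]
  · intro h
    rw [IsZero.iff_id_eq_zero]
    apply hom_ext_stalk
    intro x
    ext a
    have := h x
    exact Subsingleton.elim _ _

theorem mono_iff {M N : SMod X} (φ : M ⟶ N) :
    Mono φ ↔ ∀ x : X, Function.Injective (stalkMap φ x) := by
  refine ⟨fun _ x => stalkMap_injective φ x, fun h => ?_⟩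
  have h0 : IsZero (kernel φ) := by
    rw [isZero_iff_subsingleton_stalk]
    intro x
    refine ⟨fun a b => ?_⟩
    have key : ∀ a : (pr (kernel φ)).stalk x, a = 0 := by
      intro a
      apply stalkMap_injective (kernel.ι φ) x
      apply h x
      have h1 := (stalkMap_comp_apply (kernel.ι φ) φ x a).symm
      rw [kernel.condition, stalkMap_zero] at h1
      rw [h1, map_zero, map_zero]
      exact LinearMap.zero_apply a
    rw [key a, key b]
  exact Preadditive.mono_of_isZero_kernel φ h0

theorem epi_iff {M N : SMod X} (φ : M ⟶ N) :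
    Epi φ ↔ ∀ x : X, Function.Surjective (stalkMap φ x) := by
  refine ⟨fun _ x => stalkMap_surjective φ x, fun h => ?_⟩
  have h0 : IsZero (cokernel φ) := by
    rw [isZero_iff_subsingleton_stalk]
    intro x
    refine ⟨fun a b => ?_⟩
    have key : ∀ a : (pr (cokernel φ)).stalk x, a = 0 := by
      intro a
      obtain ⟨a, rfl⟩ := stalkMap_surjective (cokernel.π φ) x a
      obtain ⟨a, rfl⟩ := h x a
      rw [← stalkMap_comp_apply, cokernel.condition, stalkMap_zero]
      rfl
    rw [key a, key b]
  exact Preadditive.epi_of_isZero_cokernel φ h0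

theorem isIso_iff {M N : SMod X} (φ : M ⟶ N) :
    IsIso φ ↔ ∀ x : X, Function.Bijective (stalkMap φ x) := by
  constructor
  · intro _ x
    exact ⟨stalkMap_injective φ x, stalkMap_surjective φ x⟩
  · intro h
    have h1 : Mono φ := (mono_iff φ).mpr fun x => (h x).1
    have h2 : Epi φ := (epi_iff φ).mpr fun x => (h x).2
    exact isIso_of_mono_of_epi φ

end K941.StalkExact
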