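import Groth.Prelude.Def_HensSch
import Groth.Agent.Etalg.PairHens2

/-!
# Rings of sections of affine Henselian spectra are henselizations of pairs

`HensSch.IsHensAway A I f B φ` says that `B` is the henselization of the pair `(A_f, I A_f)`.
-/

set_option autoImplicit false
universe u
open CategoryTheory AlgebraicGeometry Opposite

namespace K941.HensAway

variable {A : Type u} [CommRing A] {I : Ideal A} {f : A} {B : Type u} [CommRing B] {φ : A →+* B}

/-- The map `A_f → B`. -/
noncomputable abbrev locMap (h : IsUnit (φ f)) : Localization.Away f →+* B :=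
  IsLocalization.Away.lift f h

theorem locMap_comp (h : IsUnit (φ f)) :
    (locMap h).comp (algebraMap A (Localization.Away f)) = φ :=
  IsLocalization.Away.lift_comp f h

theorem locMap_algebraMap (h : IsUnit (φ f)) (a : A) :
    locMap h (algebraMap A (Localization.Away f) a) = φ a :=
  IsLocalization.Away.lift_eq f h a

theorem isPairHenselization (h : HensSch.IsHensAway A I f B φ) :
    @Hens2.IsPairHenselization (Localization.Away f) _ (I.map (algebraMap A _)) B _
      (locMap h.1).toAlgebra := by
  let _ := (locMap h.1).toAlgebra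
  have e : (I.map (algebraMap A (Localization.Away f))).map
      (algebraMap (Localization.Away f) B) = I.map φ := by
    rw [Ideal.map_map]
    exact congrArg (fun k => I.map k) (locMap_comp h.1)
  refine ⟨?_, ?_⟩
  · rw [e]; exact h.2.1
  · intro C _ J g hC hJ
    have hu : IsUnit ((g.comp (algebraMap A (Localization.Away f))) f) :=
      (IsLocalization.Away.algebraMap_isUnit f).map g
    rw [Ideal.map_map] at hJ
    obtain ⟨k, hk, huniq⟩ := h.2.2 C J (g.comp (algebraMap A _)) hC hJ hu
    refine ⟨k, ?_, ?_⟩
    · refine IsLocalization.ringHom_ext (Submonoid.powers f) ?_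
      rw [RingHom.comp_assoc]
      refine Eq.trans (congrArg k.comp (locMap_comp h.1)) hk
    · intro k' hk'
      refine huniq k' ?_
      change k'.comp φ = _
      rw [← hk', RingHom.comp_assoc]
      exact (congrArg k'.comp (locMap_comp h.1)).symm

/-- Every section is congruent modulo `I` to a fraction. -/
theorem exists_pow_mul_sub_mem (h : HensSch.IsHensAway A I f B φ) (s : B) :
    ∃ (a : A) (n : ℕ), φ f ^ n * s - φ a ∈ I.map φ := by
  let _ := (locMap h.1).toAlgebra
  have hp := isPairHenselization h
  have hq := (Groth.Agent.Etalg.PairHens2.quot_bijective B hp).2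
  obtain ⟨t, ht⟩ := hq (Ideal.Quotient.mk _ s)
  obtain ⟨t, rfl⟩ := Ideal.Quotient.mk_surjective t
  rw [Ideal.quotientMap_mk, Ideal.Quotient.eq] at ht
  obtain ⟨⟨a, m⟩, hm⟩ := IsLocalization.surj (Submonoid.powers f) t
  obtain ⟨n, hn⟩ := m.2
  refine ⟨a, n, ?_⟩
  have e : (I.map (algebraMap A (Localization.Away f))).map
      (algebraMap (Localization.Away f) B) = I.map φ := by
    rw [Ideal.map_map]
    exact congrArg (fun k => I.map k) (locMap_comp h.1)
  rw [e] at ht
  have h1 : algebraMap (Localization.Away f) B t * φ f ^ n = φ a := by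
    have := congrArg (locMap h.1) hm
    rw [map_mul, locMap_algebraMap] at this
    simp only [← hn] at this
    rw [locMap_algebraMap, map_pow] at this
    exact this
  have h2 : φ f ^ n * s - φ a = -(φ f ^ n * (algebraMap (Localization.Away f) B t - s)) := by
    rw [← h1]; ring
  rw [h2]
  exact neg_mem (Ideal.mul_mem_left _ _ ht)

/-- If `φ a` lies in the ideal generated by `I`, then a power of `f` times `a` lies in `I`. -/
theorem exists_pow_mul_mem (h : HensSch.IsHensAway A I f B φ) (a : A) (ha : φ a ∈ I.map φ) :
    ∃ n : ℕ, f ^ n * a ∈ I := by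
  let _ := (locMap h.1).toAlgebra
  have hp := isPairHenselization h
  have hq := (Groth.Agent.Etalg.PairHens2.quot_bijective B hp).1
  have e : (I.map (algebraMap A (Localization.Away f))).map
      (algebraMap (Localization.Away f) B) = I.map φ := by
    rw [Ideal.map_map]
    exact congrArg (fun k => I.map k) (locMap_comp h.1)
  have h1 : algebraMap A (Localization.Away f) a ∈ I.map (algebraMap A (Localization.Away f)) := by
    rw [← Ideal.Quotient.eq_zero_iff_mem]
    apply hq
    rw [map_zero, Ideal.quotientMap_mk, Ideal.Quotient.eq_zero_iff_mem, e]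
    exact (congrArg (· ∈ I.map φ) (locMap_algebraMap h.1 a)).mpr ha
  rw [IsLocalization.algebraMap_mem_map_algebraMap_iff (Submonoid.powers f)] at h1
  obtain ⟨m, ⟨n, rfl⟩, hm⟩ := h1
  exact ⟨n, hm⟩

end K941.HensAway
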