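import Groth.Agent.HensSch.K941.HensAway

/-!
# Basic facts on affine Henselian spectra
-/

set_option autoImplicit false
universe u
open CategoryTheory AlgebraicGeometry Opposite TopologicalSpace

namespace K941.Sph

variable {A : Type u} [CommRing A] {X : LocallyRingedSpace.{u}} (π : X ⟶ HensSch.specLRS A)

theorem secMap_res {U V : Opens (PrimeSpectrum A)} (h : V ≤ U) (a : A) :
    X.presheaf.map ((Opens.map π.base).map (homOfLE h)).op (HensSch.secMap π U a) =
      HensSch.secMap π V a := by
  have := ConcreteCategory.congr_hom (X.presheaf.map_comp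
    ((Opens.map π.base).map (homOfLE (le_top : U ≤ ⊤))).op
    ((Opens.map π.base).map (homOfLE h)).op)
    (π.c.app (op ⊤) ((Scheme.ΓSpecIso (CommRingCat.of A)).inv a))
  exact this.symm

theorem secMap_res' {U : Opens (PrimeSpectrum A)} {W : Opens X}
    {V : Opens (PrimeSpectrum A)} (i : W ⟶ (Opens.map π.base).obj U)
    (j : W ⟶ (Opens.map π.base).obj V) (a : A) :
    X.presheaf.map i.op (HensSch.secMap π U a) = X.presheaf.map j.op (HensSch.secMap π V a) := by
  have h1 := ConcreteCategory.congr_hom (X.presheaf.map_comp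
    ((Opens.map π.base).map (homOfLE (le_top : U ≤ ⊤))).op i.op)
    (π.c.app (op ⊤) ((Scheme.ΓSpecIso (CommRingCat.of A)).inv a))
  have h2 := ConcreteCategory.congr_hom (X.presheaf.map_comp
    ((Opens.map π.base).map (homOfLE (le_top : V ≤ ⊤))).op j.op)
    (π.c.app (op ⊤) ((Scheme.ΓSpecIso (CommRingCat.of A)).inv a))
  exact h1.symm.trans h2

theorem basicOpen_secMap (U : Opens (PrimeSpectrum A)) (a : A) :
    X.toRingedSpace.basicOpen (U := (Opens.map π.base).obj U) (HensSch.secMap π U a) =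
      (Opens.map π.base).obj (U ⊓ PrimeSpectrum.basicOpen a) := by
  have h1 := X.toRingedSpace.basicOpen_res
    ((Opens.map π.base).map (homOfLE (le_top : U ≤ ⊤))).op
    (π.c.app (op ⊤) ((Scheme.ΓSpecIso (CommRingCat.of A)).inv a))
  refine h1.trans ?_
  have h2 := LocallyRingedSpace.preimage_basicOpen π (U := ⊤)
    ((Scheme.ΓSpecIso (CommRingCat.of A)).inv a)
  have h3 := AlgebraicGeometry.basicOpen_eq_of_affine (R := CommRingCat.of A) a
  have h4 : (HensSch.specLRS A).toRingedSpace.basicOpen (U := ⊤)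
      ((Scheme.ΓSpecIso (CommRingCat.of A)).inv a) = PrimeSpectrum.basicOpen a := h3
  rw [h4] at h2
  exact congrArg (fun W => (Opens.map π.base).obj U ⊓ W) h2.symm

theorem isUnit_germ_secMap_iff (U : Opens (PrimeSpectrum A)) (a : A) (x : X)
    (hx : x ∈ (Opens.map π.base).obj U) :
    IsUnit (X.presheaf.germ _ x hx (HensSch.secMap π U a)) ↔ a ∉ (π.base x).asIdeal := by
  rw [← RingedSpace.mem_basicOpen X.toRingedSpace (U := (Opens.map π.base).obj U)
    (HensSch.secMap π U a) x hx, basicOpen_secMap]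
  exact ⟨fun h => h.2, fun h => ⟨hx, h⟩⟩

theorem mem_dOpen (f : A) (x : X) : x ∈ HensSch.dOpen π f ↔ f ∉ (π.base x).asIdeal := Iff.rfl

variable {π}

/-- The distinguished opens form a basis. -/
theorem exists_dOpen_le {I : Ideal A} (h : HensSch.IsSph A I X π) (W : Opens X) (x : X)
    (hx : x ∈ W) : ∃ f : A, x ∈ HensSch.dOpen π f ∧ HensSch.dOpen π f ≤ W := by
  obtain ⟨V, hV, hVW⟩ := h.1.isInducing.isOpen_iff.mp W.2
  have hxV : π.base x ∈ (⟨V, hV⟩ : Opens (PrimeSpectrum A)) := by
    have : x ∈ π.base ⁻¹' V := by rw [hVW]; exact hx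
    exact this
  obtain ⟨_, ⟨f, rfl⟩, hf, hf'⟩ :=
    PrimeSpectrum.isTopologicalBasis_basic_opens.exists_subset_of_mem_open hxV hV
  refine ⟨f, hf, ?_⟩
  intro y hy
  have : y ∈ π.base ⁻¹' V := hf' hy
  rw [hVW] at this
  exact this

theorem le_asIdeal {I : Ideal A} (h : HensSch.IsSph A I X π) (x : X) :
    I ≤ (π.base x).asIdeal := by
  have : π.base x ∈ PrimeSpectrum.zeroLocus (I : Set A) := by
    rw [← h.2.1]; exact ⟨x, rfl⟩
  exact this

theorem exists_point {I : Ideal A} (h : HensSch.IsSph A I X π) (p : PrimeSpectrum A)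
    (hp : I ≤ p.asIdeal) : ∃ x : X, π.base x = p := by
  have : p ∈ Set.range π.base := by rw [h.2.1]; exact hp
  exact this

/-- Sections of the ideal generated by `I` are not invertible at any point. -/
theorem germ_mem_of_mem_map {I : Ideal A} (h : HensSch.IsSph A I X π)
    (U : Opens (PrimeSpectrum A)) (x : X) (hx : x ∈ (Opens.map π.base).obj U)
    (s : X.presheaf.obj (op ((Opens.map π.base).obj U))) (hs : s ∈ I.map (HensSch.secMap π U)) :
    X.presheaf.germ _ x hx s ∈ IsLocalRing.maximalIdeal (X.presheaf.stalk x) := by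
  have hle : I.map (HensSch.secMap π U) ≤
      (IsLocalRing.maximalIdeal (X.presheaf.stalk x)).comap (X.presheaf.germ _ x hx).hom := by
    rw [Ideal.map_le_iff_le_comap]
    intro a ha
    rw [Ideal.mem_comap, Ideal.mem_comap, IsLocalRing.mem_maximalIdeal, mem_nonunits_iff]
    intro hu
    exact (isUnit_germ_secMap_iff π U a x hx).mp hu (le_asIdeal h x ha)
  exact hle hs

/-- The non-vanishing locus of a section over a distinguished open is a distinguished open. -/
theorem exists_basicOpen_eq {I : Ideal A} (h : HensSch.IsSph A I X π) (g : A)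
    (s : X.presheaf.obj (op (HensSch.dOpen π g))) :
    ∃ b : A, X.toRingedSpace.basicOpen (U := HensSch.dOpen π g) s = HensSch.dOpen π (g * b) := by
  obtain ⟨b, n, hb⟩ := HensAway.exists_pow_mul_sub_mem (h.2.2 g) s
  refine ⟨b, ?_⟩
  ext x
  constructor
  · rintro ⟨hx, hu⟩
    have hx' : g ∉ (π.base x).asIdeal := hx
    have hm := germ_mem_of_mem_map h _ x hx _ hb
    change g * b ∉ (π.base x).asIdeal
    intro hgb
    have hb' : b ∈ (π.base x).asIdeal := ((π.base x).2.mem_or_mem hgb).resolve_left hx'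
    have h1 : ¬ IsUnit (X.presheaf.germ _ x hx (HensSch.secMap π (PrimeSpectrum.basicOpen g) b)) :=
      fun hc => (isUnit_germ_secMap_iff π _ b x hx).mp hc hb'
    have h2 : IsUnit (X.presheaf.germ _ x hx (HensSch.secMap π (PrimeSpectrum.basicOpen g) g)) :=
      (isUnit_germ_secMap_iff π _ g x hx).mpr hx'
    rw [map_sub, map_mul, map_pow] at hm
    have h3 : X.presheaf.germ _ x hx (HensSch.secMap π (PrimeSpectrum.basicOpen g) b) ∈
      IsLocalRing.maximalIdeal (X.presheaf.stalk x) := h1
    have h4 := add_mem hm h3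
    rw [sub_add_cancel] at h4
    exact (IsLocalRing.mem_maximalIdeal _).mp h4 ((h2.pow n).mul hu)
  · intro hx
    have hx : g * b ∉ (π.base x).asIdeal := hx
    have hg : x ∈ HensSch.dOpen π g :=
      (fun hc => hx (Ideal.mul_mem_right _ _ hc) : g ∉ (π.base x).asIdeal)
    have hb' : b ∉ (π.base x).asIdeal := fun hc => hx (Ideal.mul_mem_left _ _ hc)
    refine ⟨hg, ?_⟩
    by_contra hu
    have hm := germ_mem_of_mem_map h (PrimeSpectrum.basicOpen g) x hg _ hb
    rw [map_sub, map_mul, map_pow] at hm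
    have h1 : X.presheaf.germ _ x hg s ∈ IsLocalRing.maximalIdeal (X.presheaf.stalk x) := hu
    have h2 := Ideal.mul_mem_left _
      ((X.presheaf.germ _ x hg (HensSch.secMap π (PrimeSpectrum.basicOpen g) g)) ^ n) h1
    have h3 := sub_mem h2 hm
    rw [sub_sub_cancel] at h3
    exact (IsLocalRing.mem_maximalIdeal _).mp h3 ((isUnit_germ_secMap_iff π (PrimeSpectrum.basicOpen g) b x hg).mpr hb')

end K941.Sph
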