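import Mathlib.Geometry.RingedSpace.OpenImmersion
import Mathlib.Geometry.RingedSpace.LocallyRingedSpace

/-!
# Maps on sections induced by a morphism of locally ringed spaces
-/

set_option autoImplicit false
universe u
open CategoryTheory AlgebraicGeometry Opposite TopologicalSpace

namespace K941.AppLE

variable {X Y Z : LocallyRingedSpace.{u}}

/-- Restriction of sections. -/
noncomputable def res {U V : Opens X} (h : V ≤ U) :
    X.presheaf.obj (op U) →+* X.presheaf.obj (op V) :=
  (X.presheaf.map (homOfLE h).op).hom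

theorem res_res {U V W : Opens X} (h : V ≤ U) (h' : W ≤ V) (s : X.presheaf.obj (op U)) :
    res h' (res h s) = res (h'.trans h) s :=
  (ConcreteCategory.congr_hom (X.presheaf.map_comp (homOfLE h).op (homOfLE h').op) s).symm

theorem res_self {U : Opens X} (h : U ≤ U) (s : X.presheaf.obj (op U)) : res h s = s :=
  ConcreteCategory.congr_hom (X.presheaf.map_id (op U)) s

theorem germ_res {U V : Opens X} (h : V ≤ U) (x : X) (hx : x ∈ V) (s : X.presheaf.obj (op U)) :
    X.presheaf.germ V x hx (res h s) = X.presheaf.germ U x (h hx) s :=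
  TopCat.Presheaf.germ_res_apply X.presheaf (homOfLE h) x hx s

/-- The map `O_Y(V) → O_X(U)` for `U ≤ f⁻¹ V`. -/
noncomputable def appLE (f : X ⟶ Y) (V : Opens Y) (U : Opens X)
    (h : U ≤ (Opens.map f.base).obj V) : Y.presheaf.obj (op V) →+* X.presheaf.obj (op U) :=
  (res h).comp (f.c.app (op V)).hom

theorem appLE_apply (f : X ⟶ Y) (V : Opens Y) (U : Opens X)
    (h : U ≤ (Opens.map f.base).obj V) (s : Y.presheaf.obj (op V)) :
    appLE f V U h s = res h (f.c.app (op V) s) := rfl

theorem res_appLE (f : X ⟶ Y) (V : Opens Y) (U U' : Opens X)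
    (h : U ≤ (Opens.map f.base).obj V) (h' : U' ≤ U) (s : Y.presheaf.obj (op V)) :
    res h' (appLE f V U h s) = appLE f V U' (h'.trans h) s :=
  res_res _ _ _

theorem appLE_res (f : X ⟶ Y) (V V' : Opens Y) (U : Opens X) (h' : V' ≤ V)
    (h : U ≤ (Opens.map f.base).obj V') (s : Y.presheaf.obj (op V)) :
    appLE f V' U h (res h' s) = appLE f V U (h.trans ((Opens.map f.base).map (homOfLE h')).le) s := by
  have h1 := ConcreteCategory.congr_hom (f.c.naturality (homOfLE h').op) s
  have h2 : f.c.app (op V') (res h' s) =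
      res ((Opens.map f.base).map (homOfLE h')).le (f.c.app (op V) s) := h1
  rw [appLE_apply, h2, res_res]
  rfl

theorem germ_appLE (f : X ⟶ Y) (V : Opens Y) (U : Opens X)
    (h : U ≤ (Opens.map f.base).obj V) (s : Y.presheaf.obj (op V)) (x : X) (hx : x ∈ U) :
    X.presheaf.germ U x hx (appLE f V U h s) =
      f.stalkMap x (Y.presheaf.germ V (f.base x) (h hx) s) := by
  rw [appLE_apply, germ_res]
  exact (LocallyRingedSpace.stalkMap_germ_apply f V x (h hx) s).symm

theorem appLE_comp (f : X ⟶ Y) (g : Y ⟶ Z) (V : Opens Z) (U : Opens Y) (W : Opens X)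
    (h : U ≤ (Opens.map g.base).obj V) (h' : W ≤ (Opens.map f.base).obj U)
    (s : Z.presheaf.obj (op V)) :
    appLE f U W h' (appLE g V U h s) = appLE (f ≫ g) V W (fun x hx => h (h' hx)) s := by
  rw [appLE_apply g, appLE_res]
  rfl

theorem appLE_congr {f g : X ⟶ Y} (e : f = g) (V : Opens Y) (U : Opens X)
    (h : U ≤ (Opens.map f.base).obj V) (s : Y.presheaf.obj (op V)) :
    appLE f V U h s = appLE g V U (e ▸ h) s := by
  subst e; rfl

theorem section_ext (U : Opens X) (s t : X.presheaf.obj (op U))
    (h : ∀ (x : X) (hx : x ∈ U), X.presheaf.germ U x hx s = X.presheaf.germ U x hx t) : s = t :=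
  TopCat.Presheaf.section_ext X.sheaf U s t h

/-- For an open immersion and an open `U`, the map `O_Y(f U) → O_X(U)` is bijective. -/
theorem bijective_appLE (f : X ⟶ Y) [LocallyRingedSpace.IsOpenImmersion f] (V : Opens Y)
    (U : Opens X) (h : U ≤ (Opens.map f.base).obj V) (h' : (V : Set Y) ⊆ f.base '' (U : Set X)) :
    Function.Bijective (appLE f V U h) := by
  have h1 : Function.Bijective (f.c.app (op V)) := by
    have := PresheafedSpace.IsOpenImmersion.isIso_of_subset f.toHom V
      (h'.trans (Set.image_subset_range _ _))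
    exact ConcreteCategory.bijective_of_isIso (f.c.app (op V))
  have oe : Topology.IsOpenEmbedding f.base :=
    PresheafedSpace.IsOpenImmersion.base_open (f := f.toHom)
  have h2 : (Opens.map f.base).obj V ≤ U := by
    intro x hx
    obtain ⟨y, hy, hxy⟩ := h' hx
    exact oe.injective hxy ▸ hy
  have h3 : Function.Bijective (res h : X.presheaf.obj _ → _) := by
    refine Function.bijective_iff_has_inverse.mpr ⟨res h2, fun s => ?_, fun s => ?_⟩
    · rw [res_res, res_self]
    · rw [res_res, res_self]
  exact h3.comp h1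

end K941.AppLE
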