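import Groth.Agent.HensSch.K941.AppLE
import Groth.Agent.HensSch.K941.SphStalk

/-!
# Charts of Henselizations
-/

set_option autoImplicit false
universe u
open CategoryTheory AlgebraicGeometry Opposite TopologicalSpace

namespace K941.Chart
open K941.AppLE

/-- Transport of `IsHensAway` along a bijective ring map under `A`. -/
theorem isHensAway_of_bijective {A : Type u} [CommRing A] {I : Ideal A} {f : A}
    {B B' : Type u} [CommRing B] [CommRing B'] {φ : A →+* B} {φ' : A →+* B'} (e : B →+* B')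
    (he : Function.Bijective e) (hφ : e.comp φ = φ') (h : HensSch.IsHensAway A I f B' φ') :
    HensSch.IsHensAway A I f B φ := by
  let E : B ≃+* B' := RingEquiv.ofBijective e he
  have hE : (E.symm : B' →+* B).comp φ' = φ := by
    rw [← hφ]
    ext a
    exact E.symm_apply_apply (φ a)
  have hE' : (E : B →+* B').comp φ = φ' := hφ
  refine ⟨?_, ?_, ?_⟩
  · rw [← hE]
    exact h.1.map (E.symm : B' →+* B)
  · have h1 := Groth.Agent.Etalg.PairHens2.henselianRing_of_equiv E.symm h.2.1
    have h2 : (I.map φ').map E.symm.toRingHom = I.map φ := by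
      rw [Ideal.map_map]
      exact congrArg (fun k => I.map k) hE
    rw [h2] at h1
    exact h1
  · intro C _ J g hC hJ hu
    obtain ⟨k, hk, huniq⟩ := h.2.2 C J g hC hJ hu
    refine ⟨k.comp (E : B →+* B'), ?_, ?_⟩
    · change (k.comp (E : B →+* B')).comp φ = g
      rw [RingHom.comp_assoc, hE', hk]
    · intro k' hk'
      have h3 : k'.comp (E.symm : B' →+* B) = k := by
        apply huniq
        change (k'.comp (E.symm : B' →+* B)).comp φ' = g
        rw [RingHom.comp_assoc, hE]
        exact hk'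
      rw [← h3]
      ext b
      change k' b = k' (E.symm (E b))
      rw [RingEquiv.symm_apply_apply]

section Spec

variable {A : Type u} [CommRing A]

/-- The elements of `A` as sections of the structure sheaf. -/
noncomputable def toSec (U : Opens (PrimeSpectrum A)) :
    A →+* (HensSch.specLRS A).presheaf.obj (op U) :=
  (res (X := HensSch.specLRS A) (le_top : U ≤ ⊤)).comp (Scheme.ΓSpecIso (CommRingCat.of A)).inv.hom

theorem res_toSec {U V : Opens (PrimeSpectrum A)} (h : V ≤ U) (a : A) :
    res (X := HensSch.specLRS A) h (toSec U a) = toSec V a := res_res _ _ _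

theorem toSec_eq (U : Opens (PrimeSpectrum A)) :
    toSec U = algebraMap A ((Spec.structureSheaf A).presheaf.obj (op U)) := rfl

theorem toSec_isLocalization (f : A) :
    @IsLocalization.Away A _ f ((HensSch.specLRS A).presheaf.obj (op (PrimeSpectrum.basicOpen f))) _
      (toSec (PrimeSpectrum.basicOpen f)).toAlgebra := by
  have h : (toSec (PrimeSpectrum.basicOpen f)).toAlgebra =
      StructureSheaf.openAlgebra A (op (PrimeSpectrum.basicOpen f)) :=
    Algebra.algebra_ext _ _ (fun r => rfl)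
  rw [h]
  exact (inferInstance : IsLocalization.Away f
    ((Spec.structureSheaf A).presheaf.obj (op (PrimeSpectrum.basicOpen f))))

/-- Sections over `D(f)` are fractions. -/
theorem exists_frac (f : A)
    (s : (HensSch.specLRS A).presheaf.obj (op (PrimeSpectrum.basicOpen f))) :
    ∃ (b : A) (n : ℕ), s * toSec (PrimeSpectrum.basicOpen f) f ^ n =
      toSec (PrimeSpectrum.basicOpen f) b := by
  letI := (toSec (PrimeSpectrum.basicOpen f)).toAlgebra
  haveI := toSec_isLocalization f
  obtain ⟨⟨b, m⟩, hb⟩ := IsLocalization.surj (Submonoid.powers f) s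
  obtain ⟨n, hn⟩ := m.2
  refine ⟨b, n, ?_⟩
  have h1 : s * toSec (PrimeSpectrum.basicOpen f) m.1 = toSec (PrimeSpectrum.basicOpen f) b := hb
  rw [← hn, map_pow] at h1
  exact h1

theorem isUnit_germ_toSec_iff (U : Opens (PrimeSpectrum A)) (a : A) (p : PrimeSpectrum A)
    (hp : p ∈ U) :
    IsUnit ((HensSch.specLRS A).presheaf.germ U p hp (toSec U a)) ↔ a ∉ p.asIdeal := by
  rw [toSec, RingHom.comp_apply, germ_res (X := HensSch.specLRS A)]
  have h1 := (RingedSpace.mem_basicOpen (HensSch.specLRS A).toRingedSpace (U := ⊤)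
    ((Scheme.ΓSpecIso (CommRingCat.of A)).inv a) p trivial).symm
  have h3 : (HensSch.specLRS A).toRingedSpace.basicOpen (U := ⊤)
      ((Scheme.ΓSpecIso (CommRingCat.of A)).inv a) = PrimeSpectrum.basicOpen a :=
    AlgebraicGeometry.basicOpen_eq_of_affine (R := CommRingCat.of A) a
  rw [h3] at h1
  exact h1

end Spec

variable {X : Scheme.{u}} {A : Type u} [CommRing A] (j : Spec (CommRingCat.of A) ⟶ X)
  [IsOpenImmersion j]

instance : LocallyRingedSpace.IsOpenImmersion j.toLRSHom :=
  (inferInstance : IsOpenImmersion j)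

/-- The image of the chart. -/
noncomputable def Om : Opens X.toLocallyRingedSpace := j.opensRange

theorem top_le : (⊤ : Opens (HensSch.specLRS A)) ≤ (Opens.map j.toLRSHom.base).obj (Om j) :=
  fun x _ => ⟨x, rfl⟩

theorem bijective_appLE_j : Function.Bijective (appLE j.toLRSHom (Om j) ⊤ (top_le j)) := by
  refine bijective_appLE j.toLRSHom (Om j) ⊤ (top_le j) ?_
  rintro _ ⟨x, rfl⟩
  exact ⟨x, trivial, rfl⟩

/-- The map from `A` to the sections over the image of the chart. -/
noncomputable def al : A →+* X.toLocallyRingedSpace.presheaf.obj (op (Om j)) :=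
  (RingEquiv.ofBijective (appLE j.toLRSHom (Om j) ⊤ (top_le j)) (bijective_appLE_j j)).symm.toRingHom.comp
    (Scheme.ΓSpecIso (CommRingCat.of A)).inv.hom

theorem appLE_al_top (a : A) : appLE j.toLRSHom (Om j) ⊤ (top_le j) (al j a) =
    (Scheme.ΓSpecIso (CommRingCat.of A)).inv a :=
  (RingEquiv.ofBijective (appLE j.toLRSHom (Om j) ⊤ (top_le j)) (bijective_appLE_j j)).apply_symm_apply _

theorem appLE_al (U : Opens (PrimeSpectrum A)) (h) (a : A) :
    appLE j.toLRSHom (Om j) U h (al j a) = toSec U a := by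
  have := res_appLE j.toLRSHom (Om j) ⊤ U (top_le j) le_top (al j a)
  rw [appLE_al_top] at this
  exact this.symm

theorem isUnit_germ_al_iff (a : A) (p : PrimeSpectrum A) (hp : j.toLRSHom.base p ∈ Om j) :
    IsUnit (X.toLocallyRingedSpace.presheaf.germ (Om j) (j.toLRSHom.base p) hp (al j a)) ↔
      a ∉ p.asIdeal := by
  rw [← isUnit_germ_toSec_iff ⊤ a p trivial, ← appLE_al j ⊤ (top_le j), germ_appLE]
  exact (isUnit_map_iff (j.toLRSHom.stalkMap p).hom _).symm

/-- The image of `D(f)`. -/
noncomputable def im (f : A) : Opens X.toLocallyRingedSpace :=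
  ⟨j.toLRSHom.base '' (PrimeSpectrum.basicOpen f : Set (PrimeSpectrum A)),
    (PresheafedSpace.IsOpenImmersion.base_open (f := j.toLRSHom.toHom)).isOpenMap _
      (PrimeSpectrum.basicOpen f).2⟩

theorem im_le (f : A) : im j f ≤ Om j := by
  rintro _ ⟨x, _, rfl⟩
  exact ⟨x, rfl⟩

theorem basicOpen_le_im (f : A) :
    (PrimeSpectrum.basicOpen f : Opens (HensSch.specLRS A)) ≤
      (Opens.map j.toLRSHom.base).obj (im j f) :=
  fun x hx => ⟨x, hx, rfl⟩

/-- Locally, sections on `X` are fractions. -/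
theorem exists_frac_im (Ω : Opens X.toLocallyRingedSpace)
    (t : X.toLocallyRingedSpace.presheaf.obj (op Ω)) (p : PrimeSpectrum A)
    (hp : j.toLRSHom.base p ∈ Ω) (f : A) (hf : f ∉ p.asIdeal) :
    ∃ (f' : A) (_ : f' * f ∉ p.asIdeal) (h : im j (f' * f) ≤ Ω) (b : A) (n : ℕ),
      res h t * res (im_le j (f' * f)) (al j (f' * f)) ^ n =
        res (im_le j (f' * f)) (al j b) := by
  obtain ⟨_, ⟨f', rfl⟩, hf', hle⟩ :=
    PrimeSpectrum.isTopologicalBasis_basic_opens.exists_subset_of_mem_open
      (show p ∈ SetLike.coe ((Opens.map j.toLRSHom.base).obj Ω) from hp)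
      ((Opens.map j.toLRSHom.base).obj Ω).2
  have h1 : im j (f' * f) ≤ Ω := by
    rintro _ ⟨x, hx, rfl⟩
    have : x ∈ PrimeSpectrum.basicOpen (f' * f) := hx
    rw [PrimeSpectrum.basicOpen_mul] at this
    exact hle this.1
  have hff : f' * f ∉ p.asIdeal := by
    intro hc
    exact (p.2.mem_or_mem hc).elim hf' hf
  obtain ⟨b, n, hb⟩ := exists_frac (f' * f)
    (appLE j.toLRSHom (im j (f' * f)) (PrimeSpectrum.basicOpen (f' * f))
      (basicOpen_le_im j (f' * f)) (res h1 t))
  refine ⟨f', hff, h1, b, n, ?_⟩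
  apply (bijective_appLE j.toLRSHom (im j (f' * f)) (PrimeSpectrum.basicOpen (f' * f))
    (basicOpen_le_im j (f' * f)) (le_refl _)).1
  rw [map_mul, map_pow, appLE_res _ _ _ _ (im_le j (f' * f)), appLE_al,
    appLE_res _ _ _ _ (im_le j (f' * f)), appLE_al]
  exact hb

section Hens

variable {Xh : LocallyRingedSpace.{u}} {ι : Xh ⟶ X.toLocallyRingedSpace}
  {V : LocallyRingedSpace.{u}} (v : V ⟶ Xh) [LocallyRingedSpace.IsOpenImmersion v]
  (π : V ⟶ HensSch.specLRS A) (hcomm : v ≫ ι = π ≫ j.toLRSHom)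
  {I : Ideal A} (hs : HensSch.IsSph A I V π)

/-- The distinguished open of `Xh` attached to `f`. -/
noncomputable def Wf (f : A) : Opens Xh :=
  ⟨v.base '' (HensSch.dOpen π f : Set V),
    (PresheafedSpace.IsOpenImmersion.base_open (f := v.toHom)).isOpenMap _ (HensSch.dOpen π f).2⟩

theorem dOpen_le_Wf (f : A) : HensSch.dOpen π f ≤ (Opens.map v.base).obj (Wf v π f) :=
  fun x hx => ⟨x, hx, rfl⟩

include hcomm in
theorem ι_v (w : V) : ι.base (v.base w) = j.toLRSHom.base (π.base w) := by
  have := congrArg (fun k => k.base w) hcomm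
  exact this

include hcomm in
theorem Wf_le_im (f : A) : Wf v π f ≤ (Opens.map ι.base).obj (im j f) := by
  rintro _ ⟨w, hw, rfl⟩
  refine ⟨π.base w, hw, (ι_v j v π hcomm w).symm⟩

include hcomm in
theorem Wf_le (f : A) : Wf v π f ≤ (Opens.map ι.base).obj (Om j) :=
  fun x hx => im_le j f (Wf_le_im j v π hcomm f hx)

theorem Wf_mul_le (f f' : A) : Wf v π (f' * f) ≤ Wf v π f := by
  rintro _ ⟨w, hw, rfl⟩
  refine ⟨w, ?_, rfl⟩
  intro hc
  exact hw (Ideal.mul_mem_left _ _ hc)

/-- The map from `A` to the sections over the distinguished open. -/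
noncomputable def ga (f : A) : A →+* Xh.presheaf.obj (op (Wf v π f)) :=
  (appLE ι (Om j) (Wf v π f) (Wf_le j v π hcomm f)).comp (al j)

theorem appLE_ga (f a : A) :
    appLE v (Wf v π f) (HensSch.dOpen π f) (dOpen_le_Wf v π f) (ga j v π hcomm f a) =
      HensSch.secMap π (PrimeSpectrum.basicOpen f) a := by
  rw [ga, RingHom.comp_apply, appLE_comp, appLE_congr hcomm,
    ← appLE_comp π j.toLRSHom (Om j) ⊤ (HensSch.dOpen π f) (top_le j) le_top, appLE_al_top]
  rfl

include hs in
theorem isHensAway_ga (f : A) :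
    HensSch.IsHensAway A I f (Xh.presheaf.obj (op (Wf v π f))) (ga j v π hcomm f) :=
  isHensAway_of_bijective (appLE v (Wf v π f) (HensSch.dOpen π f) (dOpen_le_Wf v π f))
    (bijective_appLE _ _ _ _ (le_refl _)) (RingHom.ext (appLE_ga j v π hcomm f)) (hs.2.2 f)

end Hens

end K941.Chart
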