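import Groth.Agent.HensSch.K941.Sky

/-!
# The stalk of the inverse image of a sheaf of modules on a locally ringed space

For `f : X ⟶ Y`, `M` on `Y` and `x : X`, the canonical map
`M_{f x} → (f^* M)_x` exhibits the stalk of `f^* M` as the base change of `M_{f x}` along
`O_{Y, f x} → O_{X, x}`.
-/

set_option autoImplicit false
set_option linter.unusedVariables false
universe u
open CategoryTheory AlgebraicGeometry TopologicalSpace Opposite

namespace K941.PullStalk

open K941.Sky HensSch

variable {X Y : LocallyRingedSpace.{u}} (f : X ⟶ Y)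

/-- The semilinear map on stalks `(f_* N)_{f x} → N_x` (additive version). -/
noncomputable def pushAdd (N : SMod X) (x : X) :
    (pr ((pushMod f).obj N)).stalk (f.base x) →+ (pr N).stalk x :=
  stalkDesc (pr ((pushMod f).obj N)) (f.base x) ((pr N).stalk x)
    (fun V hV => ((pr N).germ ((Opens.map f.base).obj V) x hV).hom)
    (fun U V i hU s =>
      TopCat.Presheaf.germ_res_apply (pr N) ((Opens.map f.base).map i) x hU s)

theorem pushAdd_germ (N : SMod X) (x : X) (V : Opens Y) (hV : f.base x ∈ V)
    (s : (pr N).obj (op ((Opens.map f.base).obj V))) :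
    pushAdd f N x ((pr ((pushMod f).obj N)).germ V (f.base x) hV s) =
      (pr N).germ ((Opens.map f.base).obj V) x hV s :=
  stalkDesc_germ (pr ((pushMod f).obj N)) (f.base x) ((pr N).stalk x)
    (fun V hV => ((pr N).germ ((Opens.map f.base).obj V) x hV).hom)
    (fun U V i hU s =>
      TopCat.Presheaf.germ_res_apply (pr N) ((Opens.map f.base).map i) x hU s) V hV s

theorem push_smul_def (N : SMod X) (V : Opens Y) (r : Y.presheaf.obj (op V))
    (s : (pr N).obj (op ((Opens.map f.base).obj V))) :
    (HSMul.hSMul (α := Y.presheaf.obj (op V)) (β := (pr ((pushMod f).obj N)).obj (op V)) r s) =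
      HSMul.hSMul (α := X.presheaf.obj (op ((Opens.map f.base).obj V)))
        (β := (pr N).obj (op ((Opens.map f.base).obj V))) (f.c.app (op V) r) s := rfl

theorem germ_stalkMap (V : Opens Y) (x : X) (hV : f.base x ∈ V) (r : Y.presheaf.obj (op V)) :
    f.stalkMap x (Y.presheaf.germ V (f.base x) hV r) =
      X.presheaf.germ ((Opens.map f.base).obj V) x hV (f.c.app (op V) r) :=
  ConcreteCategory.congr_hom (PresheafedSpace.stalkMap_germ f.toHom V x hV) r

theorem pushAdd_smul (N : SMod X) (x : X) (r : Y.presheaf.stalk (f.base x))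
    (t : (pr ((pushMod f).obj N)).stalk (f.base x)) :
    pushAdd f N x (r • t) = (f.stalkMap x r : X.presheaf.stalk x) • pushAdd f N x t := by
  obtain ⟨U, hU, r, s, rfl, rfl⟩ := exists_common ((pushMod f).obj N).val (f.base x) r t
  have h1 : Y.presheaf.germ U (f.base x) hU r •
      (pr ((pushMod f).obj N)).germ U (f.base x) hU s =
      (pr ((pushMod f).obj N)).germ U (f.base x) hU (r • s) :=
    (pre_germ_smul ((pushMod f).obj N).val (f.base x) U hU r s).symm
  refine (congrArg (pushAdd f N x) h1).trans ?_
  refine (pushAdd_germ f N x U hU _).trans ?_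
  refine (pre_germ_smul N.val x ((Opens.map f.base).obj U) hU (f.c.app (op U) r) s).trans ?_
  refine congrArg₂ (fun a b => a • b) ?_ (pushAdd_germ f N x U hU s).symm
  exact (germ_stalkMap f U x hU r).symm

/-- The canonical additive map `M_{f x} → (f^* M)_x`. -/
noncomputable def canAdd (M : SMod Y) (x : X) :
    (pr M).stalk (f.base x) →+ (pr ((pullMod f).obj M)).stalk x :=
  (pushAdd f _ x).comp
    (stalkMap ((pullPushAdj f).unit.app M) (f.base x)).toAddMonoidHom

theorem canAdd_germ (M : SMod Y) (x : X) (V : Opens Y) (hV : f.base x ∈ V)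
    (s : (pr M).obj (op V)) :
    canAdd f M x ((pr M).germ V (f.base x) hV s) =
      (pr ((pullMod f).obj M)).germ ((Opens.map f.base).obj V) x hV
        (app ((pullPushAdj f).unit.app M) V s) := by
  refine (congrArg (pushAdd f _ x) (stalkMap_germ _ (f.base x) V hV s)).trans ?_
  exact pushAdd_germ f _ x V hV _

theorem canAdd_smul (M : SMod Y) (x : X) (r : Y.presheaf.stalk (f.base x))
    (t : (pr M).stalk (f.base x)) :
    canAdd f M x (r • t) = (f.stalkMap x r : X.presheaf.stalk x) • canAdd f M x t := by
  refine (congrArg (pushAdd f _ x) (map_smul (stalkMap _ (f.base x)) r t)).trans ?_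
  exact pushAdd_smul f _ x r _

section Universal

variable {x : X} {Q : Type u} [AddCommGroup Q] [Module (X.presheaf.stalk x) Q]

/-- The morphism `M ⟶ f_* sky` attached to a semilinear map out of the stalk of `M`. -/
noncomputable def toPushSky {M : SMod Y} (g : (pr M).stalk (f.base x) →+ Q)
    (hg : ∀ (r : Y.presheaf.stalk (f.base x)) (t : (pr M).stalk (f.base x)),
      g (r • t) = (f.stalkMap x r : X.presheaf.stalk x) • g t) :
    M ⟶ (pushMod f).obj (sky x Q) :=
  ⟨{  app := fun V => ModuleCat.ofHom
        (Y := ((pushMod f).obj (sky x Q)).val.obj V)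
        { toFun := fun s => (fun h => g ((pr M).germ V.unop (f.base x) h.down s) :
            Sec x Q ((Opens.map f.base).obj V.unop))
          map_add' := fun s t => by
            refine (funext fun h => ?_ : (_ : Sec x Q ((Opens.map f.base).obj V.unop)) = _)
            exact (congrArg g (((pr M).germ V.unop (f.base x) h.down).hom.map_add s t)).trans
              (g.map_add _ _)
          map_smul' := fun r s => by
            refine (funext fun h => ?_ : (_ : Sec x Q ((Opens.map f.base).obj V.unop)) = _)
            refine (congrArg g (pre_germ_smul M.val (f.base x) V.unop h.down r s)).trans ?_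
            refine (hg _ _).trans ?_
            refine congrArg (fun a => a • g ((pr M).germ V.unop (f.base x) h.down s)) ?_
            exact germ_stalkMap f V.unop x h.down r }
      naturality := fun {U V} i => by
        ext s
        refine (funext fun h => ?_ : (_ : Sec x Q ((Opens.map f.base).obj V.unop)) = _)
        exact congrArg g (TopCat.Presheaf.germ_res_apply (pr M) i.unop (f.base x) h.down s) }⟩

theorem toPushSky_app_apply {M : SMod Y} (g : (pr M).stalk (f.base x) →+ Q)
    (hg : ∀ (r : Y.presheaf.stalk (f.base x)) (t : (pr M).stalk (f.base x)),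
      g (r • t) = (f.stalkMap x r : X.presheaf.stalk x) • g t) (V : Opens Y)
    (s : (pr M).obj (op V)) (h : PLift (x ∈ (Opens.map f.base).obj V)) :
    (app (toPushSky f g hg) V s : Sec x Q ((Opens.map f.base).obj V)) h =
      g ((pr M).germ V (f.base x) h.down s) := rfl

/-- The linear map out of the stalk of `f^* M` attached to a semilinear map out of the stalk
of `M`. -/
noncomputable def lift {M : SMod Y} (g : (pr M).stalk (f.base x) →+ Q)
    (hg : ∀ (r : Y.presheaf.stalk (f.base x)) (t : (pr M).stalk (f.base x)),
      g (r • t) = (f.stalkMap x r : X.presheaf.stalk x) • g t) :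
    (pr ((pullMod f).obj M)).stalk x →ₗ[X.presheaf.stalk x] Q :=
  ofSky (((pullPushAdj f).homEquiv M (sky x Q)).symm (toPushSky f g hg))

theorem lift_canAdd {M : SMod Y} (g : (pr M).stalk (f.base x) →+ Q)
    (hg : ∀ (r : Y.presheaf.stalk (f.base x)) (t : (pr M).stalk (f.base x)),
      g (r • t) = (f.stalkMap x r : X.presheaf.stalk x) • g t) (t : (pr M).stalk (f.base x)) :
    lift f g hg (canAdd f M x t) = g t := by
  obtain ⟨V, hV, s, rfl⟩ := TopCat.Presheaf.exists_germ_eq (pr M) t
  refine (congrArg (lift f g hg) (canAdd_germ f M x V hV s)).trans ?_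
  refine (ofSky_germ _ ((Opens.map f.base).obj V) hV _).trans ?_
  have h : ((pullPushAdj f).homEquiv M (sky x Q))
      (((pullPushAdj f).homEquiv M (sky x Q)).symm
        (toPushSky f g hg)) = toPushSky f g hg := Equiv.apply_symm_apply _ _
  rw [Adjunction.homEquiv_unit] at h
  have h2 := LinearMap.congr_fun (congrArg (fun k => app k V) h) s
  exact congrFun (h2 : (_ : Sec x Q ((Opens.map f.base).obj V)) = _) ⟨hV⟩

theorem lift_unique {M : SMod Y}
    (g₁ g₂ : (pr ((pullMod f).obj M)).stalk x →ₗ[X.presheaf.stalk x] Q)
    (h : ∀ t, g₁ (canAdd f M x t) = g₂ (canAdd f M x t)) : g₁ = g₂ := by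
  have key : toSky g₁ = toSky g₂ := by
    apply ((pullPushAdj f).homEquiv M (sky x Q)).injective
    rw [Adjunction.homEquiv_unit, Adjunction.homEquiv_unit]
    apply hom_ext
    intro V
    ext s
    refine (funext fun h' => ?_ : (_ : Sec x Q ((Opens.map f.base).obj V)) = _)
    have h1 := canAdd_germ f M x V h'.down s
    exact ((congrArg g₁ h1).symm.trans (h ((pr M).germ V (f.base x) h'.down s))).trans
      (congrArg g₂ h1)
  rw [← ofSky_toSky g₁, ← ofSky_toSky g₂, key]

end Universal

section BaseChange

open TensorProduct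

/-- `O_{X,x}` as an algebra over `O_{Y, f x}` (reducible definition, to be used with `letI`). -/
noncomputable abbrev stalkAlg (x : X) : Algebra (Y.presheaf.stalk (f.base x)) (X.presheaf.stalk x) :=
  (f.stalkMap x).hom.toAlgebra

/-- A stalk on `X` as a module over the local ring on `Y` (to be used with `letI`). -/
noncomputable abbrev modOver (N : SMod X) (x : X) :
    Module (Y.presheaf.stalk (f.base x)) ((pr N).stalk x) :=
  Module.compHom _ (f.stalkMap x).hom

theorem isScalarTower (N : SMod X) (x : X) :
    letI := stalkAlg f x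
    letI := modOver f N x
    IsScalarTower (Y.presheaf.stalk (f.base x)) (X.presheaf.stalk x) ((pr N).stalk x) := by
  letI := stalkAlg f x
  letI := modOver f N x
  refine ⟨fun r a m => ?_⟩
  rw [Algebra.smul_def, mul_smul]
  rfl

/-- The canonical map `M_{f x} → (f^* M)_x`, linear over `O_{Y, f x}`. -/
noncomputable def can (M : SMod Y) (x : X) :
    letI := modOver f ((pullMod f).obj M) x
    (pr M).stalk (f.base x) →ₗ[Y.presheaf.stalk (f.base x)]
      (pr ((pullMod f).obj M)).stalk x :=
  letI := modOver f ((pullMod f).obj M) x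
  { toFun := canAdd f M x
    map_add' := map_add _
    map_smul' := canAdd_smul f M x }

/-- The stalk of `f^* M` at `x` is the base change of the stalk of `M` at `f x`. -/
theorem isBaseChange_can (M : SMod Y) (x : X) :
    letI := stalkAlg f x
    letI := modOver f ((pullMod f).obj M) x
    haveI := isScalarTower f ((pullMod f).obj M) x
    IsBaseChange (X.presheaf.stalk x) (can f M x) := by
  letI := stalkAlg f x
  letI := modOver f ((pullMod f).obj M) x
  haveI := isScalarTower f ((pullMod f).obj M) x
  apply IsBaseChange.of_lift_unique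
  intro Q _ _ _ _ g
  letI : AddCommGroup Q := Module.addCommMonoidToAddCommGroup (X.presheaf.stalk x)
  have hg : ∀ (r : Y.presheaf.stalk (f.base x)) (t : (pr M).stalk (f.base x)),
      g (r • t) = (f.stalkMap x r : X.presheaf.stalk x) • g t := by
    intro r t
    rw [g.map_smul]
    exact (algebraMap_smul (X.presheaf.stalk x) r (g t)).symm
  refine ⟨lift f g.toAddMonoidHom hg, ?_, ?_⟩
  · ext t
    exact lift_canAdd f g.toAddMonoidHom hg t
  · intro g' hg'
    refine lift_unique f _ _ fun t => ?_
    exact (LinearMap.congr_fun hg' t).trans (lift_canAdd f g.toAddMonoidHom hg t).symm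

/-- The stalk of the inverse image as a tensor product. -/
noncomputable def stalkPullbackEquiv (M : SMod Y) (x : X) :
    letI := stalkAlg f x
    (X.presheaf.stalk x ⊗[Y.presheaf.stalk (f.base x)] (pr M).stalk (f.base x))
      ≃ₗ[X.presheaf.stalk x] (pr ((pullMod f).obj M)).stalk x :=
  letI := stalkAlg f x
  letI := modOver f ((pullMod f).obj M) x
  haveI := isScalarTower f ((pullMod f).obj M) x
  (isBaseChange_can f M x).equiv

theorem stalkPullbackEquiv_tmul (M : SMod Y) (x : X) (a : X.presheaf.stalk x)
    (m : (pr M).stalk (f.base x)) :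
    letI := stalkAlg f x
    stalkPullbackEquiv f M x (a ⊗ₜ[Y.presheaf.stalk (f.base x)] m) = a • canAdd f M x m :=
  letI := stalkAlg f x
  letI := modOver f ((pullMod f).obj M) x
  haveI := isScalarTower f ((pullMod f).obj M) x
  (isBaseChange_can f M x).equiv_tmul a m

/-- Naturality of the canonical map. -/
theorem stalkMap_pullback_canAdd {M N : SMod Y} (φ : M ⟶ N) (x : X)
    (t : (pr M).stalk (f.base x)) :
    stalkMap ((pullMod f).map φ) x (canAdd f M x t) =
      canAdd f N x (stalkMap φ (f.base x) t) := by
  obtain ⟨V, hV, s, rfl⟩ := TopCat.Presheaf.exists_germ_eq (pr M) t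
  have h := (pullPushAdj f).unit.naturality φ
  refine (congrArg (stalkMap ((pullMod f).map φ) x) (canAdd_germ f M x V hV s)).trans ?_
  refine (stalkMap_germ ((pullMod f).map φ) x ((Opens.map f.base).obj V) hV _).trans ?_
  refine Eq.trans ?_ (congrArg (canAdd f N x) (stalkMap_germ φ (f.base x) V hV s)).symm
  refine Eq.trans ?_ (canAdd_germ f N x V hV (app φ V s)).symm
  exact congrArg ((pr ((pullMod f).obj N)).germ ((Opens.map f.base).obj V) x hV)
    (LinearMap.congr_fun (congrArg (fun k => app k V) h) s).symm

/-- The image of the canonical map generates the stalk of the inverse image. -/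
theorem span_range_canAdd (M : SMod Y) (x : X) :
    Submodule.span (X.presheaf.stalk x) (Set.range (canAdd f M x)) = ⊤ := by
  let S := Submodule.span (X.presheaf.stalk x) (Set.range (canAdd f M x))
  have h : S.mkQ = 0 := lift_unique f _ _ fun t => by
    rw [LinearMap.zero_apply, Submodule.mkQ_apply, Submodule.Quotient.mk_eq_zero]
    exact Submodule.subset_span ⟨t, rfl⟩
  exact (Submodule.ker_mkQ S).symm.trans (by rw [h, LinearMap.ker_zero])

end BaseChange

end K941.PullStalk
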