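import Groth.Agent.HensSch.K941.StalkExact
import Groth.Agent.HensSch.K941.PullStalk
import Mathlib.RingTheory.Flat.FaithfullyFlat.Algebra
import Mathlib.RingTheory.RingHom.Flat

/-!
# Inverse image of modules along a flat morphism of locally ringed spaces is exact
-/

set_option autoImplicit false
set_option linter.unusedVariables false
universe u
open CategoryTheory CategoryTheory.Limits AlgebraicGeometry TopologicalSpace Opposite

namespace K941.FlatPull

open K941.Sky K941.StalkExact K941.PullStalk HensSch TensorProduct

variable {X Y : LocallyRingedSpace.{u}} (f : X ⟶ Y)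

/-- A morphism of locally ringed spaces is flat if its maps of local rings are flat. -/
def IsFlat : Prop := ∀ x : X, (f.stalkMap x).hom.Flat

theorem stalkMap_pullback {M N : SMod Y} (φ : M ⟶ N) (x : X) :
    letI := stalkAlg f x
    ∀ t : X.presheaf.stalk x ⊗[Y.presheaf.stalk (f.base x)] (pr M).stalk (f.base x),
    stalkMap ((pullMod f).map φ) x (stalkPullbackEquiv f M x t) =
      stalkPullbackEquiv f N x ((stalkMap φ (f.base x)).lTensor _ t) := by
  letI := stalkAlg f x
  intro t
  induction t using TensorProduct.induction_on with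
  | zero => simp only [map_zero]
  | add a b ha hb => simp only [map_add, ha, hb]
  | tmul a m =>
    rw [LinearMap.lTensor_tmul, stalkPullbackEquiv_tmul, stalkPullbackEquiv_tmul,
      LinearMap.map_smul]
    congr 1
    exact stalkMap_pullback_canAdd f φ x m

variable {f}

theorem flat_stalkAlg (hf : IsFlat f) (x : X) :
    letI := stalkAlg f x
    Module.Flat (Y.presheaf.stalk (f.base x)) (X.presheaf.stalk x) :=
  hf x

theorem faithfullyFlat_stalkAlg (hf : IsFlat f) (x : X) :
    letI := stalkAlg f x
    Module.FaithfullyFlat (Y.presheaf.stalk (f.base x)) (X.presheaf.stalk x) :=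
  letI := stalkAlg f x
  @Module.FaithfullyFlat.of_flat_of_isLocalHom _ _ _ _ _ _ _ (hf x) (f.prop x)

theorem mono_pullback_map (hf : IsFlat f) {M N : SMod Y} (φ : M ⟶ N) [Mono φ] :
    Mono ((pullMod f).map φ) := by
  rw [mono_iff]
  intro x
  letI := stalkAlg f x
  have := flat_stalkAlg hf x
  intro a b hab
  obtain ⟨a, rfl⟩ := (stalkPullbackEquiv f M x).surjective a
  obtain ⟨b, rfl⟩ := (stalkPullbackEquiv f M x).surjective b
  rw [stalkMap_pullback, stalkMap_pullback, EmbeddingLike.apply_eq_iff_eq] at hab
  congr 1
  exact Module.Flat.lTensor_preserves_injective_linearMap _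
    (stalkMap_injective φ (f.base x)) hab

instance additive_pullMod (f : X ⟶ Y) : (pullMod f).Additive :=
  (pullPushAdj f).left_adjoint_additive

/-- Inverse image along a flat morphism is exact. -/
theorem preservesFiniteLimits_pullMod (hf : IsFlat f) :
    PreservesFiniteLimits (pullMod f) := by
  have h := (Functor.preservesFiniteColimits_iff_forall_exact_map_and_epi
    (pullMod f)).1 inferInstance
  refine (Functor.preservesFiniteLimits_iff_forall_exact_map_and_mono
    (pullMod f)).2 fun S hS => ⟨(h S hS).1, ?_⟩
  have := hS.mono_f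
  exact mono_pullback_map hf S.f

/-- For a flat morphism, the canonical map `M_{f x} → (f^* M)_x` is injective. -/
theorem canAdd_injective (hf : IsFlat f) (M : SMod Y) (x : X) :
    Function.Injective (canAdd f M x) := by
  letI := stalkAlg f x
  have := faithfullyFlat_stalkAlg hf x
  have h1 := Module.FaithfullyFlat.tensorProduct_mk_injective
    (A := Y.presheaf.stalk (f.base x)) (B := X.presheaf.stalk x) ((pr M).stalk (f.base x))
  intro a b hab
  apply h1
  apply (stalkPullbackEquiv f M x).injective
  change stalkPullbackEquiv f M x (1 ⊗ₜ[Y.presheaf.stalk (f.base x)] a) =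
    stalkPullbackEquiv f M x (1 ⊗ₜ[Y.presheaf.stalk (f.base x)] b)
  rw [stalkPullbackEquiv_tmul, stalkPullbackEquiv_tmul, one_smul, one_smul, hab]

end K941.FlatPull
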