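import Groth.Agent.HensSch.K941.StalkExact
import Groth.Agent.HensSch.K941.PullStalk

/-!
# The unit `M ⟶ f_* f^* M` for a closed embedding of locally ringed spaces
-/

set_option autoImplicit false
set_option linter.unusedVariables false
universe u
open CategoryTheory CategoryTheory.Limits AlgebraicGeometry TopologicalSpace Opposite

namespace K941.UnitIso

open K941.Sky K941.StalkExact K941.PullStalk HensSch

variable {X Y : LocallyRingedSpace.{u}} (f : X ⟶ Y)

theorem pushAdd_bijective (hf : Topology.IsInducing f.base) (N : SMod X) (x : X) :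
    Function.Bijective (pushAdd f N x) := by
  constructor
  · rw [injective_iff_map_eq_zero]
    intro t ht
    obtain ⟨V, hV, s, rfl⟩ := TopCat.Presheaf.exists_germ_eq (pr ((pushMod f).obj N)) t
    have ht' : (pr N).germ ((Opens.map f.base).obj V) x hV s = 0 :=
      (pushAdd_germ f N x V hV s).symm.trans ht
    have ht'' : (pr N).germ ((Opens.map f.base).obj V) x hV s =
        (pr N).germ ((Opens.map f.base).obj V) x hV 0 := by rw [ht', map_zero]
    obtain ⟨W, hW, i₁, i₂, h5⟩ := TopCat.Presheaf.germ_eq (pr N) x hV hV s 0 ht''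
    obtain ⟨W', hW', hWW'⟩ := hf.isOpen_iff.mp W.2
    let W₁ : Opens Y := ⟨W', hW'⟩ ⊓ V
    have hx : f.base x ∈ W₁ := by
      refine ⟨?_, hV⟩
      have : x ∈ f.base ⁻¹' W' := by rw [hWW']; exact hW
      exact this
    have hle : (Opens.map f.base).obj W₁ ≤ W := by
      intro y hy
      have : y ∈ f.base ⁻¹' W' := hy.1
      rw [hWW'] at this
      exact this
    have e1 := TopCat.Presheaf.germ_res_apply (pr ((pushMod f).obj N))
      (homOfLE inf_le_right : W₁ ⟶ V) (f.base x) hx s
    have e2 : (pr ((pushMod f).obj N)).map (homOfLE inf_le_right : W₁ ⟶ V).op s = 0 := by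
      have h6 := congrArg ((pr N).map (homOfLE hle).op) h5
      rw [map_zero, map_zero] at h6
      refine Eq.trans ?_ h6
      exact (ConcreteCategory.congr_hom ((pr N).map_comp i₁.op (homOfLE hle).op) s)
    refine e1.symm.trans ((congrArg _ e2).trans (map_zero _))
  · intro t
    obtain ⟨W, hW, s, rfl⟩ := TopCat.Presheaf.exists_germ_eq (pr N) t
    obtain ⟨W', hW', hWW'⟩ := hf.isOpen_iff.mp W.2
    have hx : f.base x ∈ (⟨W', hW'⟩ : Opens Y) := by
      have : x ∈ f.base ⁻¹' W' := by rw [hWW']; exact hW
      exact this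
    have hle : (Opens.map f.base).obj ⟨W', hW'⟩ ≤ W := by
      intro y hy
      have : y ∈ f.base ⁻¹' W' := hy
      rw [hWW'] at this
      exact this
    refine ⟨(pr ((pushMod f).obj N)).germ ⟨W', hW'⟩ (f.base x) hx ((pr N).map (homOfLE hle).op s), ?_⟩
    refine (pushAdd_germ f N x ⟨W', hW'⟩ hx _).trans ?_
    exact TopCat.Presheaf.germ_res_apply (pr N) (homOfLE hle) x hx s

theorem subsingleton_stalk_push (hcl : IsClosed (Set.range f.base)) (N : SMod X) (y : Y)
    (hy : y ∉ Set.range f.base) : Subsingleton ((pr ((pushMod f).obj N)).stalk y) := by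
  have key : ∀ t : (pr ((pushMod f).obj N)).stalk y, t = 0 := by
    intro t
    obtain ⟨V, hV, s, rfl⟩ := TopCat.Presheaf.exists_germ_eq (pr ((pushMod f).obj N)) t
    let W : Opens Y := V ⊓ ⟨(Set.range f.base)ᶜ, hcl.isOpen_compl⟩
    have hW : y ∈ W := ⟨hV, hy⟩
    have e1 := TopCat.Presheaf.germ_res_apply (pr ((pushMod f).obj N))
      (homOfLE inf_le_left : W ⟶ V) y hW s
    have e2 : (pr ((pushMod f).obj N)).map (homOfLE inf_le_left : W ⟶ V).op s = 0 := by
      refine StalkExact.section_ext N ((Opens.map f.base).obj W) _ _ fun x hx => ?_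
      exact absurd ⟨x, rfl⟩ hx.2
    exact e1.symm.trans ((congrArg _ e2).trans (map_zero _))
  exact ⟨fun a b => (key a).trans (key b).symm⟩

/-- For a closed embedding `f`, the unit `M ⟶ f_* f^* M` is an isomorphism if `M → (f^* M)_x` is
bijective at all points and `M` is supported on the image. -/
theorem isIso_unit (hf : Topology.IsInducing f.base) (hcl : IsClosed (Set.range f.base))
    (M : SMod Y) (h1 : ∀ x : X, Function.Bijective (canAdd f M x))
    (h2 : ∀ y : Y, y ∉ Set.range f.base → Subsingleton ((pr M).stalk y)) :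
    IsIso ((pullPushAdj f).unit.app M) := by
  rw [isIso_iff]
  intro y
  by_cases hy : y ∈ Set.range f.base
  · obtain ⟨x, rfl⟩ := hy
    have h3 : Function.Bijective
        (pushAdd f _ x ∘ stalkMap ((pullPushAdj f).unit.app M) (f.base x)) := h1 x
    exact (Function.Bijective.of_comp_iff' (pushAdd_bijective f hf _ x) _).mp h3
  · have h3 := h2 y hy
    have h4 := subsingleton_stalk_push f hcl ((pullMod f).obj M) y hy
    refine ⟨fun a b _ => h3.elim _ _, fun a => ⟨0, ?_⟩⟩
    exact h4.elim _ _

end K941.UnitIso
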