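import Groth.Agent.HensSch.K941.HensQB
import Groth.Agent.HensSch.K941.UnitIso
import Groth.Agent.HensSch.K941.FlatPull
import Groth.Agent.FormalB.ModPow

/-!
# Formal GAGA for the `I`-adic Henselization of a proper scheme over a complete ring: full faithfulness
-/

set_option autoImplicit false
universe u
open CategoryTheory CategoryTheory.Limits AlgebraicGeometry Opposite TopologicalSpace

namespace K941.ForGAGA
open K941.Sky K941.StalkExact K941.PullStalk K941.QB K941.HensQB HensSch
open Groth.Agent.FormalB.ModPow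

variable {A : Type u} [CommRing A] {X : Scheme.{u}} [X.Over (Spec (CommRingCat.of A))]

variable (A X) in
/-- The structure morphism. -/
noncomputable abbrev sX : X ⟶ Spec (CommRingCat.of A) := X ↘ Spec (CommRingCat.of A)

/-- Morphisms of modules on `X`, with target seen as a module on the locally ringed space. -/
abbrev Hom' (F : X.Modules) (G : SMod X.toLocallyRingedSpace) : Type u := F ⟶ (show X.Modules from G)

theorem stalkMap_smulMod (M : SMod X.toLocallyRingedSpace) (a : A) (y : X.toLocallyRingedSpace)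
    (t : (pr M).stalk y) :
    stalkMap (X := X.toLocallyRingedSpace) (M := M) (N := M) (Formal.smulMod A M a) y t =
      gX (sX A X) y a • t := by
  obtain ⟨V, hV, s, rfl⟩ := TopCat.Presheaf.exists_germ_eq (pr M) t
  refine (stalkMap_germ (X := X.toLocallyRingedSpace) (M := M) (N := M)
    (Formal.smulMod A M a) y V hV s).trans ?_
  refine (pre_germ_smul M.val y V hV (X.toLocallyRingedSpace.presheaf.map (homOfLE le_top).op
    (Coh.toGlobal (sX A X) a)) s).trans ?_
  refine congrArg (fun r : X.toLocallyRingedSpace.presheaf.stalk y => r • (pr M).germ V y hV s) ?_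
  exact TopCat.Presheaf.germ_res_apply X.toLocallyRingedSpace.presheaf (homOfLE le_top) y hV
    (Coh.toGlobal (sX A X) a)

theorem smul_stalk_eq_zero {J : Ideal A} {N : SMod X.toLocallyRingedSpace}
    (hN : Formal.KilledBy (X := X) J N) (y : X.toLocallyRingedSpace)
    (k : X.toLocallyRingedSpace.presheaf.stalk y) (hk : k ∈ J.map (gX (sX A X) y))
    (t : (pr N).stalk y) : k • t = 0 := by
  have h1 : J.map (gX (sX A X) y) ≤
      LinearMap.ker (LinearMap.toSpanSingleton (X.toLocallyRingedSpace.presheaf.stalk y) _ t) := by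
    rw [Ideal.map, Ideal.span_le]
    rintro _ ⟨a, ha, rfl⟩
    change gX (sX A X) y a • t = 0
    rw [← stalkMap_smulMod]
    have h2 := hN a ha
    have h3 := congrArg (fun φ => stalkMap (X := X.toLocallyRingedSpace) (M := N) (N := N) φ y t) h2
    exact h3.trans (LinearMap.congr_fun (stalkMap_zero (X := X.toLocallyRingedSpace) N N y) t)
  exact h1 hk

section Hens

variable [IsLocallyNoetherian X] {I : Ideal A} {Xh : LocallyRingedSpace.{u}}
  {ι : Xh ⟶ X.toLocallyRingedSpace}
  (hh : HensSch.IsHenselizationAlong X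
    ((sX A X).base ⁻¹' PrimeSpectrum.zeroLocus (I : Set A)) Xh ι)

include hh in
theorem canAdd_bijective {n : ℕ} {N : SMod X.toLocallyRingedSpace}
    (hN : Formal.KilledBy (X := X) (I ^ n) N) (x : Xh) : Function.Bijective (canAdd ι N x) := by
  letI := stalkAlg ι x
  letI := modOver ι ((pullMod ι).obj N) x
  haveI := isScalarTower ι ((pullMod ι).obj N) x
  exact bijective_of_isBaseChange (qb_stalkMap (sX A X) hh x n) (can ι N x)
    (isBaseChange_can ι N x) (smul_stalk_eq_zero hN (ι.base x))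

omit [IsLocallyNoetherian X] in
include hh in
theorem subsingleton_stalk {n : ℕ} {N : SMod X.toLocallyRingedSpace}
    (hN : Formal.KilledBy (X := X) (I ^ n) N) (y : X.toLocallyRingedSpace)
    (hy : y ∉ Set.range ι.base) : Subsingleton ((pr N).stalk y) := by
  rw [hh.2.2.1] at hy
  have h1 : ¬ (I : Set A) ⊆ ((sX A X).base y).asIdeal := hy
  rw [Set.not_subset] at h1
  obtain ⟨a, haI, ha⟩ := h1
  have hu : IsUnit (gX (sX A X) y (a ^ n)) := by
    rw [map_pow]
    exact ((isUnit_gX_iff (sX A X) y a).mpr ha).pow n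
  have key : ∀ t : (pr N).stalk y, t = 0 := by
    intro t
    have h2 := smul_stalk_eq_zero hN y (gX (sX A X) y (a ^ n))
      (Ideal.mem_map_of_mem _ (Ideal.pow_mem_pow haI n)) t
    exact (hu.smul_eq_zero).mp h2
  exact ⟨fun a b => (key a).trans (key b).symm⟩

include hh in
theorem isIso_unit {n : ℕ} {N : SMod X.toLocallyRingedSpace}
    (hN : Formal.KilledBy (X := X) (I ^ n) N) : IsIso ((pullPushAdj ι).unit.app N) := by
  refine UnitIso.isIso_unit ι hh.2.1.isInducing ?_ N (canAdd_bijective hh hN)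
    (subsingleton_stalk hh hN)
  rw [hh.2.2.1]
  exact hh.1

/-- The ideal generated by `I` in the local ring of the Henselization. -/
noncomputable def Ix (I : Ideal A) (ι : Xh ⟶ X.toLocallyRingedSpace) (x : Xh) :
    Ideal (Xh.presheaf.stalk x) :=
  (I.map (gX (sX A X) (ι.base x))).map (ι.stalkMap x).hom

omit [IsLocallyNoetherian X] in
include hh in
theorem Ix_ne_top (x : Xh) : Ix I ι x ≠ ⊤ := by
  have h1 : Ix I ι x ≤ IsLocalRing.maximalIdeal (Xh.presheaf.stalk x) := by
    rw [Ix, Ideal.map_map, Ideal.map_le_iff_le_comap]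
    intro a ha
    have hz : ι.base x ∈ (sX A X).base ⁻¹' PrimeSpectrum.zeroLocus (I : Set A) := by
      rw [← hh.2.2.1]; exact ⟨x, rfl⟩
    have hz' : (I : Set A) ⊆ ((sX A X).base (ι.base x)).asIdeal := hz
    change ¬ IsUnit ((ι.stalkMap x).hom (gX (sX A X) (ι.base x) a))
    intro hc
    have h2 : IsUnit (gX (sX A X) (ι.base x) a) := (isUnit_map_iff (ι.stalkMap x).hom _).mp hc
    exact (isUnit_gX_iff (sX A X) (ι.base x) a).mp h2 (hz' ha)
  intro hc
  exact (IsLocalRing.maximalIdeal.isMaximal _).ne_top (top_le_iff.mp (hc ▸ h1))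

omit [IsLocallyNoetherian X] in
/-- The kernel of `(ι^* G)_x → (ι^*(G / I^n G))_x`. -/
theorem mem_of_stalkMap_eq_zero {G : X.Modules} (n : ℕ) (x : Xh)
    (v : (pr ((pullMod ι).obj G)).stalk x)
    (hv : stalkMap ((pullMod ι).map (cπ I G n)) x v = 0) :
    v ∈ (Ix I ι x ^ (n + 1) • ⊤ : Submodule (Xh.presheaf.stalk x)
      ((pr ((pullMod ι).obj G)).stalk x)) := by
  let S : Submodule (Xh.presheaf.stalk x) ((pr ((pullMod ι).obj G)).stalk x) :=
    Ix I ι x ^ (n + 1) • ⊤
  let W := ((pr ((pullMod ι).obj G)).stalk x) ⧸ S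
  let g : (pr (X := X.toLocallyRingedSpace) G).stalk (ι.base x) →+ W :=
    S.mkQ.toAddMonoidHom.comp (canAdd ι G x)
  have hg : ∀ (r : X.toLocallyRingedSpace.presheaf.stalk (ι.base x))
      (t : (pr (X := X.toLocallyRingedSpace) G).stalk (ι.base x)),
      g (r • t) = (ι.stalkMap x r : Xh.presheaf.stalk x) • g t := by
    intro r t
    exact (congrArg S.mkQ (canAdd_smul ι G x r t)).trans (S.mkQ.map_smul _ _)
  have hW : ∀ (a : A) (_ : a ∈ I ^ (n + 1)) (t : W),
      ((ι.stalkMap x).hom (gX (sX A X) (ι.base x) a) : Xh.presheaf.stalk x) • t = 0 := by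
    intro a ha t
    obtain ⟨t, rfl⟩ := S.mkQ_surjective t
    rw [← S.mkQ.map_smul, Submodule.mkQ_apply, Submodule.Quotient.mk_eq_zero]
    refine Submodule.smul_mem_smul ?_ Submodule.mem_top
    rw [Ix, ← Ideal.map_pow, ← Ideal.map_pow]
    exact Ideal.mem_map_of_mem _ (Ideal.mem_map_of_mem _ ha)
  let θ : Hom' G ((pushMod ι).obj (sky x W)) := toPushSky ι g hg
  have hθ : ∀ a ∈ I ^ (n + 1), Formal.smulMod A G a ≫ θ = 0 := by
    intro a ha
    apply Sky.hom_ext (X := X.toLocallyRingedSpace) (M := G) (N := (pushMod ι).obj (sky x W))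
    intro V
    ext s
    refine (funext fun h' => ?_ : (_ : Sec x W ((Opens.map ι.base).obj V)) = _)
    have e1 : (pr (X := X.toLocallyRingedSpace) G).germ V (ι.base x) h'.down
        (app (X := X.toLocallyRingedSpace) (M := G) (N := G) (Formal.smulMod A G a) V s) =
        gX (sX A X) (ι.base x) a •
          (pr (X := X.toLocallyRingedSpace) G).germ V (ι.base x) h'.down s :=
      (stalkMap_germ (X := X.toLocallyRingedSpace) (M := G) (N := G)
        (Formal.smulMod A G a) (ι.base x) V h'.down s).symm.trans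
        (stalkMap_smulMod G a (ι.base x) _)
    exact (congrArg g e1).trans ((hg _ _).trans (hW a ha _))
  obtain ⟨ψ, hψ⟩ := (isModPow_cπ I G n).desc (Z := (pushMod ι).obj (sky x W)) θ hθ
  have h1 : S.mkQ = lift ι g hg := by
    apply lift_unique ι
    intro t
    exact (lift_canAdd ι g hg t).symm
  have h2 : lift ι g hg = ofSky ((pullMod ι).map (cπ I G n) ≫
      ((pullPushAdj ι).homEquiv _ (sky x W)).symm ψ) := by
    rw [← Adjunction.homEquiv_naturality_left_symm]
    exact congrArg (fun k => ofSky (((pullPushAdj ι).homEquiv _ (sky x W)).symm k)) hψ.symm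
  have h3 : S.mkQ v = 0 := by
    rw [h1, h2]
    obtain ⟨V, hV, s, rfl⟩ := TopCat.Presheaf.exists_germ_eq (pr ((pullMod ι).obj G)) v
    rw [stalkMap_germ] at hv
    refine (ofSky_germ _ V hV s).trans ?_
    refine (ofSky_germ (((pullPushAdj ι).homEquiv _ (sky x W)).symm ψ) V hV
      (app ((pullMod ι).map (cπ I G n)) V s)).symm.trans ?_
    rw [hv, map_zero]
  rw [Submodule.mkQ_apply, Submodule.Quotient.mk_eq_zero] at h3
  exact h3

include hh in
/-- Maps into `ι^* G` are determined by their composites with `ι^* G → ι^* (G / I^n G)`. -/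
theorem eq_zero_of_comp {G : X.Modules}
    (hfin : ∀ y : X.toLocallyRingedSpace, Module.Finite
      (X.toLocallyRingedSpace.presheaf.stalk y) ((pr (X := X.toLocallyRingedSpace) G).stalk y))
    {H : SMod Xh} (δ : H ⟶ (pullMod ι).obj G)
    (hδ : ∀ n, δ ≫ (pullMod ι).map (cπ I G n) = 0) : δ = 0 := by
  apply hom_ext_stalk
  intro x
  ext t
  rw [stalkMap_zero]
  have hN := isNoetherianRing_stalk (sX A X) hh x
  have hf : Module.Finite (Xh.presheaf.stalk x) ((pr ((pullMod ι).obj G)).stalk x) := by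
    letI := stalkAlg ι x
    have := hfin (ι.base x)
    exact Module.Finite.equiv (stalkPullbackEquiv ι G x)
  have h1 := Ideal.iInf_pow_smul_eq_bot_of_isLocalRing (M := (pr ((pullMod ι).obj G)).stalk x)
    (Ix I ι x) (Ix_ne_top hh x)
  have h2 : stalkMap δ x t ∈ (⨅ i : ℕ, Ix I ι x ^ i • ⊤ : Submodule (Xh.presheaf.stalk x)
      ((pr ((pullMod ι).obj G)).stalk x)) := by
    rw [Submodule.mem_iInf]
    intro i
    have h3 : stalkMap δ x t ∈ (Ix I ι x ^ (i + 1) • ⊤ : Submodule (Xh.presheaf.stalk x)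
      ((pr ((pullMod ι).obj G)).stalk x)) := by
      apply mem_of_stalkMap_eq_zero
      rw [← stalkMap_comp_apply, hδ, stalkMap_zero]
      rfl
    exact Submodule.smul_mono_left (Ideal.pow_le_pow_right (Nat.le_succ i)) h3
  rw [h1, Submodule.mem_bot] at h2
  exact h2

end Hens

section Abstract

universe v₁ u₁ u₂

variable {C : Type u₁} {D : Type u₂} [Category.{v₁} C] [Category.{v₁} D] {L : C ⥤ D} {R : D ⥤ C}
  (adj : L ⊣ R)

theorem abstract_bijective {F G : C} (Gn : ℕ → C) (p : ∀ n, G ⟶ Gn n) (tr : ∀ n, Gn (n + 1) ⟶ Gn n)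
    (hp : ∀ n, p (n + 1) ≫ tr n = p n) (hη : ∀ n, IsIso (adj.unit.app (Gn n)))
    (hC : ∀ δ₁ δ₂ : L.obj F ⟶ L.obj G,
      (∀ n, δ₁ ≫ L.map (p n) = δ₂ ≫ L.map (p n)) → δ₁ = δ₂)
    (hff : ∀ ψ : ∀ n, F ⟶ Gn n, (∀ n, ψ (n + 1) ≫ tr n = ψ n) → ∃! φ : F ⟶ G, ∀ n, φ ≫ p n = ψ n) :
    Function.Bijective (fun φ : F ⟶ G => φ ≫ adj.unit.app G) := by
  constructor
  · intro φ₁ φ₂ h
    change φ₁ ≫ adj.unit.app G = φ₂ ≫ adj.unit.app G at h
    have h1 : ∀ n, φ₂ ≫ p n = φ₁ ≫ p n := by
      intro n
      have := hη n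
      rw [← cancel_mono (adj.unit.app (Gn n)), Category.assoc, Category.assoc]
      have := adj.unit.naturality (p n)
      simp only [Functor.id_map] at this
      rw [this, ← Category.assoc, ← Category.assoc, h]
    exact (hff (fun n => φ₁ ≫ p n) (fun n => by rw [Category.assoc, hp])).unique
      (fun n => rfl) h1
  · intro χ
    let ψ : ∀ n, F ⟶ Gn n := fun n => χ ≫ R.map (L.map (p n)) ≫ inv (adj.unit.app (Gn n))
    have hψ : ∀ n, ψ n ≫ adj.unit.app (Gn n) = χ ≫ R.map (L.map (p n)) := by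
      intro n
      have := hη n
      simp [ψ]
    obtain ⟨φ, hφ, -⟩ := hff ψ (by
      intro n
      have := hη n
      rw [← cancel_mono (adj.unit.app (Gn n)), Category.assoc]
      have h1 := adj.unit.naturality (tr n)
      simp only [Functor.id_map] at h1
      rw [h1, ← Category.assoc, hψ, hψ, Category.assoc, Functor.comp_map, ← R.map_comp,
        ← L.map_comp, hp])
    refine ⟨φ, ?_⟩
    change φ ≫ adj.unit.app G = χ
    apply (adj.homEquiv F (L.obj G)).symm.injective
    apply hC
    intro n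
    apply (adj.homEquiv F (L.obj (Gn n))).injective
    rw [Adjunction.homEquiv_naturality_right, Adjunction.homEquiv_naturality_right,
      Equiv.apply_symm_apply, Equiv.apply_symm_apply, ← hψ, ← hφ n, Category.assoc, Category.assoc]
    have h1 := adj.unit.naturality (p n)
    simp only [Functor.id_map, Functor.comp_map] at h1
    rw [← h1]

/-- The left adjoint is fully faithful on `F`, `G` if composition with the unit is bijective. -/
theorem bijective_map {F G : C} (h : Function.Bijective (fun φ : F ⟶ G => φ ≫ adj.unit.app G)) :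
    Function.Bijective (L.map : (F ⟶ G) → (L.obj F ⟶ L.obj G)) := by
  have h1 : (fun φ : F ⟶ G => φ ≫ adj.unit.app G) =
      (adj.homEquiv F (L.obj G)) ∘ (L.map : (F ⟶ G) → (L.obj F ⟶ L.obj G)) := by
    funext φ
    rw [Function.comp_apply, Adjunction.homEquiv_unit]
    exact adj.unit.naturality φ
  rw [h1] at h
  exact (Function.Bijective.of_comp_iff' (adj.homEquiv F (L.obj G)).bijective _).mp h

end Abstract

section Main

variable [IsLocallyNoetherian X] {I : Ideal A} {Xh : LocallyRingedSpace.{u}}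
  {ι : Xh ⟶ X.toLocallyRingedSpace}
  (hh : HensSch.IsHenselizationAlong X
    ((sX A X).base ⁻¹' PrimeSpectrum.zeroLocus (I : Set A)) Xh ι)

omit [IsLocallyNoetherian X] in
theorem ff_of {F G : X.Modules} (hff : ∀ τ : Formal.completion I F ⟶ Formal.completion I G,
      ∃! φ : F ⟶ G, ∀ n : ℕ, cπ I F n ≫ τ.app (op n) = φ ≫ cπ I G n)
    (ψ : ∀ n : ℕ, F ⟶ (Formal.completion I G).obj (op n))
    (hψ : ∀ n : ℕ, ψ (n + 1) ≫ (Formal.completion I G).map (homOfLE (Nat.le_succ n)).op = ψ n) :
    ∃! φ : F ⟶ G, ∀ n : ℕ, φ ≫ cπ I G n = ψ n := by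
  have hk : ∀ n, ∀ a ∈ I ^ (n + 1), Formal.smulMod A F a ≫ ψ n = 0 := by
    intro n a ha
    rw [smulMod_naturality, (isModPow_cπ I G n).killedBy a ha, comp_zero]
  obtain ⟨φ, h1, h2⟩ := hff (completionDesc I ψ hk hψ)
  refine ⟨φ, fun n => ?_, fun φ' h' => h2 φ' fun n => ?_⟩
  · rw [← h1 n, cπ_completionDesc]
  · rw [h' n, cπ_completionDesc]

include hh in
/-- Composition with the unit `G → ι_* ι^* G` is bijective on morphisms from `F`. -/
theorem bijective_comp_unit {F G : X.Modules}
    (hfin : ∀ y : X.toLocallyRingedSpace, Module.Finite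
      (X.toLocallyRingedSpace.presheaf.stalk y) ((pr (X := X.toLocallyRingedSpace) G).stalk y))
    (hff : ∀ τ : Formal.completion I F ⟶ Formal.completion I G,
      ∃! φ : F ⟶ G, ∀ n : ℕ, cπ I F n ≫ τ.app (op n) = φ ≫ cπ I G n) :
    Function.Bijective (fun φ : F ⟶ G =>
      (φ ≫ (pullPushAdj ι).unit.app G : Hom' F ((pushMod ι).obj ((pullMod ι).obj G)))) :=
  abstract_bijective (C := X.Modules) (pullPushAdj ι)
    (fun n => (Formal.completion I G).obj (op n)) (cπ I G)
    (fun n => (Formal.completion I G).map (homOfLE (Nat.le_succ n)).op) (cπ_map_succ I G)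
    (fun n => isIso_unit hh (isModPow_cπ I G n).killedBy)
    (fun δ₁ δ₂ h => sub_eq_zero.mp (eq_zero_of_comp hh hfin (δ₁ - δ₂) fun n => by
      rw [Preadditive.sub_comp]
      exact sub_eq_zero.mpr (h n)))
    (ff_of hff)

end Main

end K941.ForGAGA
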