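import Groth.Agent.HensSch.K941.ForGAGA
import Groth.Agent.CycB.CohStalk
import Groth.Agent.CurvesC.UnitCoh
import Groth.Agent.Dcoh.FinLocFree
import Groth.Agent.S0060

/-!
# Formal GAGA for the `I`-adic Henselization of a proper scheme over a complete ring
-/

set_option autoImplicit false
universe u
open CategoryTheory CategoryTheory.Limits AlgebraicGeometry Opposite TopologicalSpace

namespace K941.ForGAGA2
open K941.Sky K941.HensQB HensSch K941.ForGAGA
open Groth.Agent.FormalB.ModPow

variable {A : Type u} [CommRing A] [IsNoetherianRing A] {X : Scheme.{u}}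
  (s : X ⟶ Spec (CommRingCat.of A)) [IsProper s] {I : Ideal A} [IsAdicComplete I A]
  {Xh : LocallyRingedSpace.{u}} {ι : Xh ⟶ X.toLocallyRingedSpace}
  (hh : HensSch.IsHenselizationAlong X (s.base ⁻¹' PrimeSpectrum.zeroLocus (I : Set A)) Xh ι)

include hh in
theorem bijective_comp_unit {F G : X.Modules} (hF : Coh.IsCoh F) (hG : Coh.IsCoh G) :
    Function.Bijective (fun φ : F ⟶ G =>
      (φ ≫ (pullPushAdj ι).unit.app G : Hom' F ((pushMod ι).obj ((pullMod ι).obj G)))) := by
  letI : X.Over (Spec (CommRingCat.of A)) := ⟨s⟩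
  have hp : IsProper (X ↘ Spec (CommRingCat.of A)) := ‹IsProper s›
  have : IsLocallyNoetherian X :=
    LocallyOfFiniteType.isLocallyNoetherian (X ↘ Spec (CommRingCat.of A))
  exact ForGAGA.bijective_comp_unit hh (fun y => Groth.Agent.CycB.CohStalk.finite_stalk G hG y)
    (fun τ => Groth.Agent.S0060.result A I X F G hF hG τ)

include hh in
theorem bijective_map {F G : X.Modules} (hF : Coh.IsCoh F) (hG : Coh.IsCoh G) :
    Function.Bijective
      ((HensSch.pullMod ι).map : (F ⟶ G) → ((HensSch.pullMod ι).obj F ⟶ (HensSch.pullMod ι).obj G)) :=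
  ForGAGA.bijective_map (C := X.Modules) (pullPushAdj ι) (bijective_comp_unit s hh hF hG)

include hh in
theorem bijective_sections {G : X.Modules} (hG : Coh.IsCoh G) :
    Function.Bijective (((HensSch.pullPushAdj ι).unit.app G).val.app (op ⊤)) := by
  have h1 := bijective_comp_unit s hh (Groth.Agent.CurvesC.UnitCoh.isCoh_unit X) hG
  let e₁ := Groth.Agent.Dcoh.FinLocFree.unitEquiv G
  let e₂ := Groth.Agent.Dcoh.FinLocFree.unitEquiv
    (show X.Modules from (pushMod ι).obj ((pullMod ι).obj G))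
  have h2 : ∀ φ, ((HensSch.pullPushAdj ι).unit.app G).val.app (op ⊤) (e₁ φ) =
      e₂ (φ ≫ (pullPushAdj ι).unit.app G) := fun φ => rfl
  constructor
  · intro a b hab
    obtain ⟨φ, rfl⟩ := e₁.surjective a
    obtain ⟨ψ, rfl⟩ := e₁.surjective b
    rw [h2, h2] at hab
    rw [h1.1 (e₂.injective hab)]
  · intro c
    obtain ⟨χ, rfl⟩ := e₂.surjective c
    obtain ⟨φ, rfl⟩ := h1.2 χ
    exact ⟨e₁ φ, h2 φ⟩

end K941.ForGAGA2
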