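import Groth.Agent.HensSch.K941.SphStalk
import Groth.Agent.HensSch.K941.FlatPull

/-!
# Henselizations of schemes along closed subsets are flat
-/

set_option autoImplicit false
universe u
open CategoryTheory AlgebraicGeometry Opposite TopologicalSpace

namespace K941.HensAlong

open K941.FlatPull

/-- `IsFlat` for affine Henselian spectra. -/
theorem isFlat_of_isSph {A : Type u} [CommRing A] {I : Ideal A} {X : LocallyRingedSpace.{u}}
    {π : X ⟶ HensSch.specLRS A} (h : HensSch.IsSph A I X π) : IsFlat π :=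
  fun x => Sph.flat_stalkMap h x

theorem flat_stalkMap_of_isIso {X Y : LocallyRingedSpace.{u}} (f : X ⟶ Y) (x : X)
    [IsIso (f.stalkMap x)] : (f.stalkMap x).hom.Flat :=
  RingHom.Flat.of_bijective (ConcreteCategory.bijective_of_isIso (f.stalkMap x))

instance isIso_stalkMap {X Y : LocallyRingedSpace.{u}} (f : X ⟶ Y)
    [LocallyRingedSpace.IsOpenImmersion f] (x : X) : IsIso (f.stalkMap x) :=
  PresheafedSpace.IsOpenImmersion.stalk_iso f.toHom x

/-- Flatness of the stalk map can be tested after an open immersion into the source. -/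
theorem flat_of_comp {V X Y : LocallyRingedSpace.{u}} (v : V ⟶ X) (f : X ⟶ Y) (g : V ⟶ Y)
    (e : v ≫ f = g) (w : V) [IsIso (v.stalkMap w)] (hg : (g.stalkMap w).hom.Flat) :
    (f.stalkMap (v.base w)).hom.Flat := by
  subst e
  rw [LocallyRingedSpace.stalkMap_comp] at hg
  have h1 : f.stalkMap (v.base w) =
      (f.stalkMap (v.base w) ≫ v.stalkMap w) ≫ inv (v.stalkMap w) := by simp
  rw [h1]
  have h2 : (inv (v.stalkMap w)).hom.Flat :=
    RingHom.Flat.of_bijective (ConcreteCategory.bijective_of_isIso (inv (v.stalkMap w)))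
  exact RingHom.Flat.comp hg h2

theorem flat_comp {X Y Z : LocallyRingedSpace.{u}} (f : X ⟶ Y) (g : Y ⟶ Z) (x : X)
    (hf : (f.stalkMap x).hom.Flat) (hg : (g.stalkMap (f.base x)).hom.Flat) :
    ((f ≫ g).stalkMap x).hom.Flat := by
  rw [LocallyRingedSpace.stalkMap_comp]
  exact RingHom.Flat.comp hg hf

/-- The Henselization of a scheme along a closed subset is flat over the scheme. -/
theorem isFlat (X : Scheme.{u}) (Y : Set X)
    (Xh : LocallyRingedSpace.{u}) (ι : Xh ⟶ X.toLocallyRingedSpace)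
    (hh : HensSch.IsHenselizationAlong X Y Xh ι) : IsFlat ι := by
  intro z
  obtain ⟨-, -, hr, hc⟩ := hh
  have hz : ι.base z ∈ Y := by rw [← hr]; exact ⟨z, rfl⟩
  obtain ⟨A, _, j, _, hj, V, v, _, π, hv, hcomm, hs⟩ := hc _ hz
  have hz' : z ∈ Set.range v.base := by rw [hv]; exact hj
  obtain ⟨w, rfl⟩ := hz'
  refine flat_of_comp v ι (π ≫ j.toLRSHom) hcomm w ?_
  refine flat_comp _ _ w (isFlat_of_isSph hs w) ?_
  have : LocallyRingedSpace.IsOpenImmersion j.toLRSHom := inferInstance
  exact flat_stalkMap_of_isIso _ _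

end K941.HensAlong
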