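import Groth.Agent.HensSch.K941.HensSec
import Groth.Agent.HensSch.K941.Chart
import Mathlib.Topology.Sheaves.SheafCondition.Sites

/-!
# The universal property of the Henselization of a scheme along a closed subset
-/

set_option autoImplicit false
universe u
open CategoryTheory AlgebraicGeometry Opposite TopologicalSpace

namespace K941.HensLift
open K941.AppLE K941.HensSec K941.Chart

variable {X : Scheme.{u}} {Xh : LocallyRingedSpace.{u}} {ι : Xh ⟶ X.toLocallyRingedSpace}
  {Z : LocallyRingedSpace.{u}} (g : Z ⟶ X.toLocallyRingedSpace)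
  (hZ : ∀ W : Opens Z, HenselianRing (Z.presheaf.obj (op W)) (van W))
  (b : Z.toTopCat ⟶ Xh.toTopCat) (hb : ∀ z, ι.base (b z) = g.base z)

include hb in
theorem le_of_le {W : Opens Xh} {Ω : Opens X.toLocallyRingedSpace}
    (h : W ≤ (Opens.map ι.base).obj Ω) :
    (Opens.map b).obj W ≤ (Opens.map g.base).obj Ω := by
  intro z hz
  have h1 : ι.base (b z) ∈ Ω := h hz
  rw [hb] at h1
  exact h1

/-- A ring map `O_{Xh}(W) → O_Z(b⁻¹ W)` is compatible with `g` if it is over `X`. -/
def Compat (W : Opens Xh) (h : Xh.presheaf.obj (op W) →+* Z.presheaf.obj (op ((Opens.map b).obj W))) :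
    Prop :=
  ∀ (Ω : Opens X.toLocallyRingedSpace) (hΩ : W ≤ (Opens.map ι.base).obj Ω)
    (t : X.toLocallyRingedSpace.presheaf.obj (op Ω)),
    h (appLE ι Ω W hΩ t) = appLE g Ω ((Opens.map b).obj W) (le_of_le g b hb hΩ) t

section Chart

variable {A : Type u} [CommRing A] (j : Spec (CommRingCat.of A) ⟶ X) [IsOpenImmersion j]
  {V : LocallyRingedSpace.{u}} (v : V ⟶ Xh) [LocallyRingedSpace.IsOpenImmersion v]
  (π : V ⟶ HensSch.specLRS A) (hcomm : v ≫ ι = π ≫ j.toLRSHom)
  {I : Ideal A} (hs : HensSch.IsSph A I V π)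

/-- The map `A → O_Z(W)`, for `W` mapping into the chart. -/
noncomputable def de (W : Opens Z) (hW : W ≤ (Opens.map g.base).obj (Om j)) :
    A →+* Z.presheaf.obj (op W) :=
  (appLE g (Om j) W hW).comp (al j)

include hcomm hs in
theorem map_de_le (W : Opens Z) (hW : W ≤ (Opens.map g.base).obj (Om j))
    (hW' : ∀ z ∈ W, ∃ w : V, g.base z = ι.base (v.base w)) :
    I.map (de g j W hW) ≤ van W := by
  rw [Ideal.map_le_iff_le_comap]
  intro a ha
  rw [Ideal.mem_comap, mem_van]
  intro z hz
  obtain ⟨w, hw⟩ := hW' z hz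
  rw [ι_v j v π hcomm] at hw
  rw [de, RingHom.comp_apply, germ_appLE, IsLocalRing.mem_maximalIdeal, mem_nonunits_iff]
  intro hc
  have h1 := (isUnit_map_iff (g.stalkMap z).hom _).mp hc
  have h2 : ∀ (y : X) (hy : y ∈ Om j) (e : y = j.toLRSHom.base (π.base w))
      (hu : IsUnit (X.toLocallyRingedSpace.presheaf.germ (Om j) y hy (al j a))), False := by
    rintro y hy rfl hu
    exact (isUnit_germ_al_iff j a (π.base w) hy).mp hu (Sph.le_asIdeal hs w ha)
  exact h2 _ _ hw h1

include hcomm in
theorem isUnit_de (W : Opens Z) (hW : W ≤ (Opens.map g.base).obj (Om j)) (f : A)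
    (hW' : ∀ z ∈ W, ∃ w : V, g.base z = ι.base (v.base w) ∧ w ∈ HensSch.dOpen π f) :
    IsUnit (de g j W hW f) := by
  apply isUnit_of_germ
  intro z hz
  obtain ⟨w, hw, hwf⟩ := hW' z hz
  rw [ι_v j v π hcomm] at hw
  rw [de, RingHom.comp_apply, germ_appLE]
  have h2 : ∀ (y : X) (hy : y ∈ Om j) (e : y = j.toLRSHom.base (π.base w)),
      IsUnit (X.toLocallyRingedSpace.presheaf.germ (Om j) y hy (al j f)) := by
    rintro y hy rfl
    exact (isUnit_germ_al_iff j f (π.base w) hy).mpr hwf
  exact (h2 _ _ hw).map (g.stalkMap z).hom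

include hs hZ in
/-- Two ring maps `O_{Xh}(W_f) → O_Z(W)` over `X` agree. -/
theorem ringHom_ext (f : A) (W : Opens Z) (hW : W ≤ (Opens.map g.base).obj (Om j))
    (hW' : ∀ z ∈ W, ∃ w : V, g.base z = ι.base (v.base w) ∧ w ∈ HensSch.dOpen π f)
    (k k' : Xh.presheaf.obj (op (Wf v π f)) →+* Z.presheaf.obj (op W))
    (hk : k.comp (ga j v π hcomm f) = de g j W hW)
    (hk' : k'.comp (ga j v π hcomm f) = de g j W hW) : k = k' :=
  ((isHensAway_ga j v π hcomm hs f).2.2 _ (van W) (de g j W hW) (hZ W)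
    (map_de_le g j v π hcomm hs W hW fun z hz => (hW' z hz).imp fun w hw => hw.1)
    (isUnit_de g j v π hcomm W hW f hW')).unique hk hk'

include hb hcomm in
theorem preim_le (f : A) :
    (Opens.map b).obj (Wf v π f) ≤ (Opens.map g.base).obj (Om j) :=
  le_of_le g b hb (Wf_le j v π hcomm f)

include hb in
theorem preim_exists (f : A) : ∀ z ∈ (Opens.map b).obj (Wf v π f),
    ∃ w : V, g.base z = ι.base (v.base w) ∧ w ∈ HensSch.dOpen π f := by
  rintro z ⟨w, hw, hwz⟩
  refine ⟨w, ?_, hw⟩
  rw [hwz, hb]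

include hs hZ hb in
theorem existsUnique_h (f : A) :
    ∃! k : Xh.presheaf.obj (op (Wf v π f)) →+* Z.presheaf.obj (op ((Opens.map b).obj (Wf v π f))),
      k.comp (ga j v π hcomm f) = de g j _ (preim_le g b hb j v π hcomm f) :=
  (isHensAway_ga j v π hcomm hs f).2.2 _ (van _) (de g j _ (preim_le g b hb j v π hcomm f)) (hZ _)
    (map_de_le g j v π hcomm hs _ _ fun z hz => (preim_exists g b hb v π f z hz).imp
      fun w hw => hw.1)
    (isUnit_de g j v π hcomm _ _ f (preim_exists g b hb v π f))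

/-- The map on sections over a distinguished open of a chart. -/
noncomputable def hf (f : A) :
    Xh.presheaf.obj (op (Wf v π f)) →+* Z.presheaf.obj (op ((Opens.map b).obj (Wf v π f))) :=
  (existsUnique_h g hZ b hb j v π hcomm hs f).choose

theorem hf_comp (f : A) : (hf g hZ b hb j v π hcomm hs f).comp (ga j v π hcomm f) =
    de g j _ (preim_le g b hb j v π hcomm f) :=
  (existsUnique_h g hZ b hb j v π hcomm hs f).choose_spec.1

theorem hf_ga (f a : A) : hf g hZ b hb j v π hcomm hs f (ga j v π hcomm f a) =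
    de g j _ (preim_le g b hb j v π hcomm f) a :=
  congrArg (fun k => k a) (hf_comp g hZ b hb j v π hcomm hs f)

/-- Compatibility of the maps within a chart. -/
theorem hf_res (f f' : A) (s : Xh.presheaf.obj (op (Wf v π f))) :
    hf g hZ b hb j v π hcomm hs (f' * f) (res (Wf_mul_le v π f f') s) =
      res ((Opens.map b).map (homOfLE (Wf_mul_le v π f f'))).le
        (hf g hZ b hb j v π hcomm hs f s) := by
  have h1 : (hf g hZ b hb j v π hcomm hs (f' * f)).comp (res (Wf_mul_le v π f f')) =
      (res ((Opens.map b).map (homOfLE (Wf_mul_le v π f f'))).le).comp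
        (hf g hZ b hb j v π hcomm hs f) := by
    refine ringHom_ext g hZ j v π hcomm hs f _ (preim_le g b hb j v π hcomm (f' * f)) ?_ _ _ ?_ ?_
    · intro z hz
      obtain ⟨w, hw, hw'⟩ := preim_exists g b hb v π (f' * f) z hz
      exact ⟨w, hw, fun hc => hw' (Ideal.mul_mem_left _ _ hc)⟩
    · rw [RingHom.comp_assoc]
      refine Eq.trans (congrArg (RingHom.comp _) ?_) (hf_comp g hZ b hb j v π hcomm hs (f' * f))
      ext a
      exact res_appLE ι (Om j) _ _ (Wf_le j v π hcomm f) (Wf_mul_le v π f f') (al j a)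
    · rw [RingHom.comp_assoc, hf_comp]
      ext a
      exact res_appLE g (Om j) _ _ (preim_le g b hb j v π hcomm f) _ (al j a)
  exact congrArg (fun k => k s) h1

/-- The maps are over `X`. -/
theorem compat_hf (f : A) : Compat g b hb (Wf v π f) (hf g hZ b hb j v π hcomm hs f) := by
  intro Ω hΩ t
  apply section_ext
  intro z hz
  obtain ⟨w, hw, hwz⟩ := id hz
  have hp : j.toLRSHom.base (π.base w) ∈ Ω := by
    rw [← ι_v j v π hcomm]
    have h1 : b z ∈ Wf v π f := hz
    rw [← hwz] at h1
    exact hΩ h1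
  obtain ⟨f', hff, hle, c, n, hc⟩ := exists_frac_im j Ω t (π.base w) hp f hw
  have hz' : z ∈ (Opens.map b).obj (Wf v π (f' * f)) := ⟨w, hff, hwz⟩
  -- compare after restriction to `W_{f' f}`
  have key : res ((Opens.map b).map (homOfLE (Wf_mul_le v π f f'))).le
      (hf g hZ b hb j v π hcomm hs f (appLE ι Ω (Wf v π f) hΩ t)) =
      res ((Opens.map b).map (homOfLE (Wf_mul_le v π f f'))).le
        (appLE g Ω ((Opens.map b).obj (Wf v π f)) (le_of_le g b hb hΩ) t) := by
    rw [← hf_res, res_appLE, res_appLE]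
    have hu : IsUnit (de g j _ (preim_le g b hb j v π hcomm (f' * f)) (f' * f)) :=
      isUnit_de g j v π hcomm _ _ (f' * f) (preim_exists g b hb v π (f' * f))
    apply (hu.pow n).mul_left_injective
    change hf g hZ b hb j v π hcomm hs (f' * f) (appLE ι Ω (Wf v π (f' * f)) _ t) *
      de g j _ (preim_le g b hb j v π hcomm (f' * f)) (f' * f) ^ n =
      appLE g Ω ((Opens.map b).obj (Wf v π (f' * f))) _ t *
      de g j _ (preim_le g b hb j v π hcomm (f' * f)) (f' * f) ^ n
    have e1 : appLE ι Ω (Wf v π (f' * f))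
        (fun x hx => hΩ (Wf_mul_le v π f f' hx)) t * ga j v π hcomm (f' * f) (f' * f) ^ n =
        ga j v π hcomm (f' * f) c := by
      have := congrArg (appLE ι (im j (f' * f)) (Wf v π (f' * f)) (Wf_le_im j v π hcomm (f' * f))) hc
      rw [map_mul, map_pow, appLE_res, appLE_res, appLE_res] at this
      exact this
    have e2 : appLE g Ω ((Opens.map b).obj (Wf v π (f' * f)))
        (fun x hx => le_of_le g b hb hΩ
          (((Opens.map b).map (homOfLE (Wf_mul_le v π f f'))).le hx)) t *
        de g j _ (preim_le g b hb j v π hcomm (f' * f)) (f' * f) ^ n =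
        de g j _ (preim_le g b hb j v π hcomm (f' * f)) c := by
      have := congrArg (appLE g (im j (f' * f)) ((Opens.map b).obj (Wf v π (f' * f)))
        (le_of_le g b hb (Wf_le_im j v π hcomm (f' * f)))) hc
      rw [map_mul, map_pow, appLE_res, appLE_res, appLE_res] at this
      exact this
    rw [← hf_ga g hZ b hb j v π hcomm hs (f' * f) (f' * f), ← map_pow, ← map_mul, e1, hf_ga,
      map_pow, hf_ga, e2]
  have h2 := congrArg (Z.presheaf.germ _ z hz') key
  rw [germ_res, germ_res] at h2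
  exact h2

end Chart

end K941.HensLift
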