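import Groth.Agent.HensSch.K941.QB
import Groth.Agent.HensSch.K941.Chart
import Groth.Agent.HensSch.K941.HensAlong
import Groth.Agent.Etalg.PairHensNoeth
import Groth.Prelude.Def_Coh

/-!
# Local rings of the `I`-adic Henselization of a locally Noetherian scheme over `Spec A`
-/

set_option autoImplicit false
universe u
open CategoryTheory AlgebraicGeometry Opposite TopologicalSpace

namespace K941.HensQB
open K941.QB K941.Chart K941.Sph

theorem quotPow {A B : Type u} [CommRing A] [CommRing B] [Algebra A B] {I : Ideal A}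
    (h : Hens2.IsPairHenselization A I B) (n : ℕ) : QB (algebraMap A B) (I ^ n) := by
  have := Groth.Agent.Etalg.PairHens2.flat _ h
  rw [qb_iff]
  exact Groth.Agent.Etalg.PairHens2.quot_pow_bijective
    (Groth.Agent.Etalg.PairHens2.quot_bijective _ h) n

theorem noeth {A B : Type u} [CommRing A] [CommRing B] [Algebra A B] {I : Ideal A}
    (h : Hens2.IsPairHenselization A I B) [IsNoetherianRing A] : IsNoetherianRing B := by
  obtain ⟨e⟩ := Groth.Agent.Etalg.PairHens2.exists_equiv h
    (Groth.Agent.Etalg.PairHens.isPairHenselization_Hens A I)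
  have := Groth.Agent.Etalg.PairHensNoeth.isNoetherianRing_Hens (A := A) (I := I)
  exact isNoetherianRing_of_ringEquiv _ e.symm.toRingEquiv

variable {X : Scheme.{u}} {A : Type u} [CommRing A] (s : X ⟶ Spec (CommRingCat.of A))

/-- The map `A → O_{X,y}`. -/
noncomputable def gX (y : X) : A →+* X.toLocallyRingedSpace.presheaf.stalk y :=
  (X.toLocallyRingedSpace.presheaf.germ ⊤ y trivial).hom.comp (Coh.toGlobal s)

section Chart

variable {B : Type u} [CommRing B] (j : Spec (CommRingCat.of B) ⟶ X)

/-- The ring map `A → B`. -/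
noncomputable def be : A →+* B := (Spec.preimage (j ≫ s)).hom

theorem spec_be : Spec.map (CommRingCat.ofHom (be s j)) = j ≫ s := Spec.map_preimage _

theorem appTop_be (a : A) : (j ≫ s).appTop ((Scheme.ΓSpecIso (CommRingCat.of A)).inv a) =
    (Scheme.ΓSpecIso (CommRingCat.of B)).inv (be s j a) := by
  rw [← spec_be s j]
  have := Scheme.ΓSpecIso_inv_naturality (CommRingCat.ofHom (be s j))
  exact (ConcreteCategory.congr_hom this a).symm

theorem stalkMap_gX (p : PrimeSpectrum B) (a : A) :
    (j.toLRSHom.stalkMap p).hom (gX s (j.toLRSHom.base p) a) = specStalk p (be s j a) := by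
  have h1 := Sph.germ_stalkMap j.toLRSHom ⊤ p trivial (Coh.toGlobal s a)
  refine h1.trans ?_
  exact congrArg (fun r : (HensSch.specLRS B).presheaf.obj (op ⊤) =>
    (HensSch.specLRS B).presheaf.germ ⊤ p trivial r) (appTop_be s j a)

theorem stalkMap_comp_gX (p : PrimeSpectrum B) :
    (j.toLRSHom.stalkMap p).hom.comp (gX s (j.toLRSHom.base p)) = (specStalk p).comp (be s j) :=
  RingHom.ext (stalkMap_gX s j p)

theorem vanishingIdeal_eq (I : Ideal A) :
    PrimeSpectrum.vanishingIdeal (j.base ⁻¹' (s.base ⁻¹' PrimeSpectrum.zeroLocus (I : Set A))) =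
      (I.map (be s j)).radical := by
  have h1 : j.base ⁻¹' (s.base ⁻¹' PrimeSpectrum.zeroLocus (I : Set A)) =
      (Spec.map (CommRingCat.ofHom (be s j))).base ⁻¹' PrimeSpectrum.zeroLocus (I : Set A) := by
    rw [spec_be]
    rfl
  have h2 : (Spec.map (CommRingCat.ofHom (be s j))).base ⁻¹' PrimeSpectrum.zeroLocus (I : Set A) =
      PrimeSpectrum.zeroLocus (I.map (be s j) : Set B) := by
    refine (PrimeSpectrum.preimage_comap_zeroLocus (be s j) (I : Set A)).trans ?_
    rw [Ideal.map, PrimeSpectrum.zeroLocus_span]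
  exact (congrArg PrimeSpectrum.vanishingIdeal (h1.trans h2)).trans
    (PrimeSpectrum.vanishingIdeal_zeroLocus_eq_radical _)

end Chart

variable [IsLocallyNoetherian X] {I : Ideal A} {Xh : LocallyRingedSpace.{u}}
  {ι : Xh ⟶ X.toLocallyRingedSpace}
  (hh : HensSch.IsHenselizationAlong X (s.base ⁻¹' PrimeSpectrum.zeroLocus (I : Set A)) Xh ι)

include hh in
theorem qb_stalkMap (x : Xh) (n : ℕ) : QB (ι.stalkMap x).hom ((I ^ n).map (gX s (ι.base x))) := by
  obtain ⟨-, -, hr, hc⟩ := hh
  have hz : ι.base x ∈ s.base ⁻¹' PrimeSpectrum.zeroLocus (I : Set A) := by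
    rw [← hr]; exact ⟨x, rfl⟩
  obtain ⟨B, _, j, _, hj, V, v, _, π, hv, hcomm, hs⟩ := hc _ hz
  have hz' : x ∈ Set.range v.base := by rw [hv]; exact hj
  obtain ⟨w, rfl⟩ := hz'
  have hN : IsNoetherianRing B := by
    have := isLocallyNoetherian_of_isOpenImmersion j
    exact isLocallyNoetherian_Spec.mp this
  have key0 : QB ((π.stalkMap w).hom.comp (j.toLRSHom.stalkMap (π.base w)).hom)
      ((I ^ n).map (gX s (j.toLRSHom.base (π.base w)))) := by
    refine QB.comp_bijective
      (ConcreteCategory.bijective_of_isIso (j.toLRSHom.stalkMap (π.base w))) ?_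
    rw [Ideal.map_map, stalkMap_comp_gX, ← Ideal.map_map]
    letI := stalkAlg (π := π) w
    have h2 := isPairHenselization_stalk hs w
    rw [vanishingIdeal_eq] at h2
    obtain ⟨k, hk⟩ := Ideal.exists_radical_pow_le_of_fg (I.map (be s j))
      (IsNoetherian.noetherian _)
    have h3 := quotPow h2 (k * n)
    refine h3.mono ?_
    rw [← Ideal.map_pow, pow_mul, Ideal.map_pow (be s j)]
    exact Ideal.map_mono (Ideal.pow_right_mono hk n)
  have key : QB ((π ≫ j.toLRSHom).stalkMap w).hom
      ((I ^ n).map (gX s ((π ≫ j.toLRSHom).base w))) :=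
    (congrArg (fun k => k.hom) (LocallyRingedSpace.stalkMap_comp π j.toLRSHom w)) ▸ key0
  rw [← hcomm] at key
  have key2 : QB ((v.stalkMap w).hom.comp (ι.stalkMap (v.base w)).hom)
      ((I ^ n).map (gX s (ι.base (v.base w)))) := by
    have e : ((v ≫ ι).stalkMap w).hom = (v.stalkMap w).hom.comp (ι.stalkMap (v.base w)).hom :=
      congrArg (fun k => k.hom) (LocallyRingedSpace.stalkMap_comp v ι w)
    exact e.symm ▸ key
  exact QB.of_bijective_comp (ConcreteCategory.bijective_of_isIso (v.stalkMap w)) key2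

include hh in
theorem isNoetherianRing_stalk (x : Xh) : IsNoetherianRing (Xh.presheaf.stalk x) := by
  obtain ⟨-, -, hr, hc⟩ := hh
  have hz : ι.base x ∈ s.base ⁻¹' PrimeSpectrum.zeroLocus (I : Set A) := by
    rw [← hr]; exact ⟨x, rfl⟩
  obtain ⟨B, _, j, _, hj, V, v, _, π, hv, hcomm, hs⟩ := hc _ hz
  have hz' : x ∈ Set.range v.base := by rw [hv]; exact hj
  obtain ⟨w, rfl⟩ := hz'
  have hN : IsNoetherianRing B := by
    have := isLocallyNoetherian_of_isOpenImmersion j
    exact isLocallyNoetherian_Spec.mp this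
  letI := stalkAlg (π := π) w
  have h2 := isPairHenselization_stalk hs w
  have : IsNoetherianRing ((HensSch.specLRS B).presheaf.stalk (π.base w)) := by
    letI := (specStalk (π.base w)).toAlgebra
    haveI := specStalk_isLocalization (π.base w)
    exact IsLocalization.isNoetherianRing (π.base w).asIdeal.primeCompl _ hN
  have h3 := noeth h2
  exact isNoetherianRing_of_ringEquiv _
    (RingEquiv.ofBijective (v.stalkMap w).hom
      (ConcreteCategory.bijective_of_isIso (v.stalkMap w))).symm

omit [IsLocallyNoetherian X] in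
theorem isUnit_gX_iff (y : X) (a : A) :
    IsUnit (gX s y a) ↔ a ∉ (s.base y).asIdeal := by
  have h1 := (Sph.germ_stalkMap s.toLRSHom ⊤ y trivial
    ((Scheme.ΓSpecIso (CommRingCat.of A)).inv a))
  have h2 : gX s y a = (s.toLRSHom.stalkMap y).hom (specStalk (s.base y) a) := h1.symm
  rw [h2]
  have h3 : IsUnit ((s.toLRSHom.stalkMap y).hom (specStalk (s.base y) a)) ↔
      IsUnit (specStalk (s.base y) a) := isUnit_map_iff (s.toLRSHom.stalkMap y).hom _
  rw [h3]
  letI := (specStalk (s.base y)).toAlgebra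
  haveI := specStalk_isLocalization (s.base y)
  exact IsLocalization.AtPrime.isUnit_to_map_iff
    ((HensSch.specLRS A).presheaf.stalk (s.base y)) (s.base y).asIdeal a

end K941.HensQB
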