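import Groth.Agent.HensSch.K941.AppLE
import Groth.Agent.HensSch.K941.SphStalk
import Groth.Agent.S0525

/-!
# Rings of sections of Henselian schemes are Henselian

For a Henselian scheme `Z` and an open `W`, the ring `O_Z(W)` is Henselian along the ideal of
sections vanishing at all points of `W`.
-/

set_option autoImplicit false
universe u
open CategoryTheory AlgebraicGeometry Opposite TopologicalSpace

namespace K941.HensSec
open K941.AppLE Polynomial

section Ring

theorem root_unique {R : Type*} [CommRing R] {J : Ideal R} (hJ : J ≤ Ideal.jacobson ⊥) (F : R[X])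
    (a b : R) (ha : F.IsRoot a) (hb : F.IsRoot b) (hab : b - a ∈ J)
    (hd : IsUnit (F.derivative.eval a)) : a = b := by
  obtain ⟨k, hk⟩ := Polynomial.binomExpansion F a (b - a)
  rw [add_sub_cancel, hb.eq_zero, ha.eq_zero, zero_add] at hk
  have h1 : (b - a) * (F.derivative.eval a + k * (b - a)) = 0 := by
    rw [mul_add]; linear_combination -hk
  have h2 : IsUnit (F.derivative.eval a + k * (b - a)) := by
    have := isLocalHom_of_le_jacobson_bot J hJ
    apply IsUnit.of_map (Ideal.Quotient.mk J)
    rw [map_add, map_mul, Ideal.Quotient.eq_zero_iff_mem.mpr hab, mul_zero, add_zero]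
    exact hd.map _
  have h3 : b - a = 0 := by
    obtain ⟨u, hu⟩ := h2
    rw [← hu] at h1
    simpa using h1
  exact (sub_eq_zero.mp h3).symm

end Ring

variable {Z : LocallyRingedSpace.{u}}

/-- The ideal of sections vanishing at all points. -/
noncomputable def van (W : Opens Z) : Ideal (Z.presheaf.obj (op W)) :=
  ⨅ z : W, (IsLocalRing.maximalIdeal (Z.presheaf.stalk z.1)).comap
    (Z.presheaf.germ W z.1 z.2).hom

theorem mem_van {W : Opens Z} (s : Z.presheaf.obj (op W)) :
    s ∈ van W ↔ ∀ (z : Z) (hz : z ∈ W), Z.presheaf.germ W z hz s ∈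
      IsLocalRing.maximalIdeal (Z.presheaf.stalk z) := by
  rw [van, Ideal.mem_iInf]
  exact ⟨fun h z hz => h ⟨z, hz⟩, fun h z => h z.1 z.2⟩

theorem isUnit_of_germ {W : Opens Z} (s : Z.presheaf.obj (op W))
    (h : ∀ (z : Z) (hz : z ∈ W), IsUnit (Z.presheaf.germ W z hz s)) : IsUnit s :=
  RingedSpace.isUnit_of_isUnit_germ (X := Z.toRingedSpace) W s h

theorem van_le_jacobson (W : Opens Z) : van W ≤ Ideal.jacobson ⊥ := by
  intro s hs
  rw [Ideal.mem_jacobson_bot]
  intro y
  apply isUnit_of_germ
  intro z hz
  have h1 := (mem_van s).mp hs z hz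
  rw [map_add, map_mul, map_one]
  by_contra hc
  have h2 := sub_mem (show _ ∈ IsLocalRing.maximalIdeal (Z.presheaf.stalk z) from hc)
    (Ideal.mul_mem_right (Z.presheaf.germ W z hz y) _ h1)
  rw [add_sub_cancel_left] at h2
  exact h2 isUnit_one

theorem res_mem_van {W V : Opens Z} (h : V ≤ W) (s : Z.presheaf.obj (op W)) (hs : s ∈ van W) :
    res h s ∈ van V := by
  rw [mem_van]
  intro z hz
  rw [germ_res]
  exact (mem_van s).mp hs z (h hz)

/-- Being Henselian is local. -/
theorem henselianRing_of_locally (W : Opens Z)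
    (H : ∀ z ∈ W, ∃ V : Opens Z, z ∈ V ∧ V ≤ W ∧
      HenselianRing (Z.presheaf.obj (op V)) (van V)) :
    HenselianRing (Z.presheaf.obj (op W)) (van W) := by
  refine ⟨van_le_jacobson W, ?_⟩
  intro F hF a₀ h0 h1
  have hu : IsUnit (F.derivative.eval a₀) := by
    have := isLocalHom_of_le_jacobson_bot _ (van_le_jacobson W)
    exact IsUnit.of_map (Ideal.Quotient.mk (van W)) _ h1
  choose V hzV hVW hV using fun z : W => H z.1 z.2
  have ex : ∀ z : W, ∃ a : Z.presheaf.obj (op (V z)), (F.map (res (hVW z))).IsRoot a ∧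
      a - res (hVW z) a₀ ∈ van (V z) := by
    intro z
    refine (hV z).is_henselian (F.map (res (hVW z))) (hF.map _) (res (hVW z) a₀) ?_ ?_
    · rw [Polynomial.eval_map_apply]
      exact res_mem_van _ _ h0
    · rw [Polynomial.derivative_map, Polynomial.eval_map_apply]
      exact (hu.map _).map _
  choose a ha ha' using ex
  have hd : ∀ z : W, IsUnit ((F.map (res (hVW z))).derivative.eval (a z)) := by
    intro z
    have := isLocalHom_of_le_jacobson_bot _ (van_le_jacobson (V z))
    apply IsUnit.of_map (Ideal.Quotient.mk (van (V z)))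
    have e : Ideal.Quotient.mk (van (V z)) (a z) =
        Ideal.Quotient.mk (van (V z)) (res (hVW z) a₀) := (Ideal.Quotient.eq).mpr (ha' z)
    rw [← Polynomial.eval_map_apply, e, Polynomial.eval_map_apply, Polynomial.derivative_map,
      Polynomial.eval_map_apply]
    exact (hu.map _).map _
  have hcompat : TopCat.Presheaf.IsCompatible Z.sheaf.1 V a := by
    intro i j
    have hi : V i ⊓ V j ≤ V i := inf_le_left
    have hj : V i ⊓ V j ≤ V j := inf_le_right
    change res hi (a i) = res hj (a j)
    have r1 : (F.map (res (hi.trans (hVW i)))).IsRoot (res hi (a i)) := by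
      have h2 : F.map (res (hi.trans (hVW i))) = (F.map (res (hVW i))).map (res hi) := by
        rw [Polynomial.map_map]
        congr 1
        ext s
        exact (res_res _ _ s).symm
      rw [h2, Polynomial.IsRoot, Polynomial.eval_map_apply, (ha i).eq_zero, map_zero]
    have r2 : (F.map (res (hi.trans (hVW i)))).IsRoot (res hj (a j)) := by
      have h2 : F.map (res (hi.trans (hVW i))) = (F.map (res (hVW j))).map (res hj) := by
        rw [Polynomial.map_map]
        congr 1
        ext s
        exact (res_res _ _ s).symm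
      rw [h2, Polynomial.IsRoot, Polynomial.eval_map_apply, (ha j).eq_zero, map_zero]
    refine root_unique (van_le_jacobson (V i ⊓ V j)) (F.map (res (hi.trans (hVW i)))) _ _ r1 r2
      ?_ ?_
    · have h3 := res_mem_van hi _ (ha' i)
      have h4 := res_mem_van hj _ (ha' j)
      rw [map_sub, res_res] at h3 h4
      have h5 := sub_mem h4 h3
      rw [sub_sub_sub_cancel_right] at h5
      exact h5
    · have h2 : F.map (res (hi.trans (hVW i))) = (F.map (res (hVW i))).map (res hi) := by
        rw [Polynomial.map_map]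
        congr 1
        ext s
        exact (res_res _ _ s).symm
      rw [h2, Polynomial.derivative_map, Polynomial.eval_map_apply]
      exact (hd i).map _
  obtain ⟨b, hb, -⟩ := Z.sheaf.existsUnique_gluing' V W (fun z => homOfLE (hVW z))
    (fun z hz => Opens.mem_iSup.mpr ⟨⟨z, hz⟩, hzV _⟩) a hcompat
  have hb' : ∀ z : W, res (hVW z) b = a z := hb
  refine ⟨b, ?_, ?_⟩
  · refine Z.sheaf.eq_of_locally_eq' V W (fun z => homOfLE (hVW z))
      (fun z hz => Opens.mem_iSup.mpr ⟨⟨z, hz⟩, hzV _⟩) _ _ (fun z => ?_)
    change res (hVW z) (F.eval b) = res (hVW z) 0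
    rw [map_zero, ← Polynomial.eval_map_apply, hb']
    exact (ha z).eq_zero
  · rw [mem_van]
    intro z hz
    have h1 := (mem_van _).mp (ha' ⟨z, hz⟩) z (hzV _)
    rw [← hb', ← map_sub, germ_res] at h1
    exact h1

section Chart

variable {A : Type u} [CommRing A] {I : Ideal A} {U : LocallyRingedSpace.{u}}
  {π : U ⟶ HensSch.specLRS A} (h : HensSch.IsSph A I U π)

include h in
/-- On a distinguished open of an affine Henselian spectrum, the sections vanishing at all points are
the sections having a power in the ideal generated by `I`. -/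
theorem van_dOpen (f : A) : (van (HensSch.dOpen π f)) =
    (I.map (HensSch.secMap π (PrimeSpectrum.basicOpen f))).radical := by
  have hle : I.map (HensSch.secMap π (PrimeSpectrum.basicOpen f)) ≤ van (HensSch.dOpen π f) := by
    intro s hs
    rw [mem_van]
    intro z hz
    exact Sph.germ_mem_of_mem_map h _ z hz s hs
  have hrad : (van (HensSch.dOpen π f)).IsRadical := by
    intro s hs
    obtain ⟨n, hn⟩ := hs
    rw [mem_van] at hn ⊢
    intro z hz
    have := hn z hz
    rw [map_pow] at this
    exact (IsLocalRing.maximalIdeal.isMaximal _).isPrime.mem_of_pow_mem _ this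
  apply le_antisymm
  · intro s hs
    obtain ⟨a, n, ha⟩ := HensAway.exists_pow_mul_sub_mem (h.2.2 f) s
    have h1 : HensSch.secMap π (PrimeSpectrum.basicOpen f) a ∈ van (HensSch.dOpen π f) := by
      have h2 := sub_mem (Ideal.mul_mem_left (van (HensSch.dOpen π f))
        (HensSch.secMap π (PrimeSpectrum.basicOpen f) f ^ n) hs) (hle ha)
      rw [sub_sub_cancel] at h2
      exact h2
    have h3 : a * f ∈ I.radical := by
      rw [Ideal.radical_eq_sInf, Ideal.mem_sInf]
      rintro p ⟨hp, hpp⟩
      by_cases hf : f ∈ p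
      · exact Ideal.mul_mem_left _ _ hf
      · obtain ⟨z, hz⟩ := Sph.exists_point h ⟨p, hpp⟩ hp
        have hzf : z ∈ HensSch.dOpen π f := by
          rw [Sph.mem_dOpen, hz]; exact hf
        have h4 := (mem_van _).mp h1 z hzf
        rw [IsLocalRing.mem_maximalIdeal, mem_nonunits_iff,
          Sph.isUnit_germ_secMap_iff π (PrimeSpectrum.basicOpen f) a z hzf, not_not, hz] at h4
        exact Ideal.mul_mem_right _ _ h4
    obtain ⟨m, hm⟩ := h3
    have hu : IsUnit (HensSch.secMap π (PrimeSpectrum.basicOpen f) f) := (h.2.2 f).1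
    have h5 : (HensSch.secMap π (PrimeSpectrum.basicOpen f) a) ∈
        (I.map (HensSch.secMap π (PrimeSpectrum.basicOpen f))).radical := by
      refine ⟨m, ?_⟩
      have h6 := Ideal.mem_map_of_mem (HensSch.secMap π (PrimeSpectrum.basicOpen f)) hm
      rw [map_pow, map_mul, mul_pow] at h6
      exact (Ideal.mul_unit_mem_iff_mem _ (hu.pow m)).mp h6
    have h7 : HensSch.secMap π (PrimeSpectrum.basicOpen f) f ^ n * s ∈
        (I.map (HensSch.secMap π (PrimeSpectrum.basicOpen f))).radical := by
      have := add_mem (Ideal.le_radical ha) h5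
      rwa [sub_add_cancel] at this
    exact (Ideal.unit_mul_mem_iff_mem _ (hu.pow n)).mp h7
  · exact hrad.radical_le_iff.mpr hle

include h in
theorem henselianRing_dOpen (f : A) :
    HenselianRing (U.presheaf.obj (op (HensSch.dOpen π f))) (van (HensSch.dOpen π f)) := by
  rw [van_dOpen h f]
  exact (Groth.Agent.S0525.henselianRing_iff_radical _ _).mp (h.2.2 f).2.1

/-- Transfer along an open immersion. -/
theorem henselianRing_of_openImmersion (i : U ⟶ Z) [LocallyRingedSpace.IsOpenImmersion i]
    (W : Opens Z) (D : Opens U) (hD : D ≤ (Opens.map i.base).obj W)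
    (hD' : (W : Set Z) ⊆ i.base '' (D : Set U))
    (hh : HenselianRing (U.presheaf.obj (op D)) (van D)) :
    HenselianRing (Z.presheaf.obj (op W)) (van W) := by
  let e := RingEquiv.ofBijective (appLE i W D hD) (bijective_appLE i W D hD hD')
  have h1 := Groth.Agent.Etalg.PairHens2.henselianRing_of_equiv e.symm hh
  have h2 : (van D).map e.symm.toRingHom = van W := by
    ext s
    rw [show (van D).map e.symm.toRingHom = (van D).comap e.toRingHom from
      Ideal.map_comap_of_equiv e.symm, Ideal.mem_comap]
    change appLE i W D hD s ∈ van D ↔ _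
    rw [mem_van, mem_van]
    constructor
    · intro hs z hz
      obtain ⟨u, hu, rfl⟩ := hD' hz
      have h3 := hs u hu
      rw [germ_appLE, IsLocalRing.mem_maximalIdeal, mem_nonunits_iff] at h3
      exact fun hc => h3 (hc.map (i.stalkMap u).hom)
    · intro hs u hu
      rw [germ_appLE, IsLocalRing.mem_maximalIdeal, mem_nonunits_iff]
      intro hc
      exact hs _ (hD hu) ((isUnit_map_iff (i.stalkMap u).hom _).mp hc)
  rw [h2] at h1
  exact h1

end Chart

/-- In a Henselian scheme, every ring of sections is Henselian along the ideal of sections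
vanishing at all points. -/
theorem henselianRing_sections {P : ∀ (A : Type u) [CommRing A], Ideal A → Prop}
    (hZ : HensSch.LocallySph P Z) (W : Opens Z) :
    HenselianRing (Z.presheaf.obj (op W)) (van W) := by
  apply henselianRing_of_locally
  intro z hz
  obtain ⟨U, i, _, ⟨u, rfl⟩, A, _, I, π, -, -, hs⟩ := hZ z
  obtain ⟨f, hf, hf'⟩ := Sph.exists_dOpen_le hs ((Opens.map i.base).obj W) u hz
  have oe : Topology.IsOpenEmbedding i.base :=
    PresheafedSpace.IsOpenImmersion.base_open (f := i.toHom)
  refine ⟨⟨i.base '' (HensSch.dOpen π f : Set U), oe.isOpenMap _ (HensSch.dOpen π f).2⟩,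
    ⟨u, hf, rfl⟩, ?_, ?_⟩
  · rintro _ ⟨y, hy, rfl⟩
    exact hf' hy
  · exact henselianRing_of_openImmersion i _ (HensSch.dOpen π f)
      (fun y hy => ⟨y, hy, rfl⟩) (le_refl _) (henselianRing_dOpen hs f)

end K941.HensSec
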