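import Groth.Agent.HensSch.K941.HensLift

/-!
# The universal property of the Henselization of a scheme along a closed subset
-/

set_option autoImplicit false
universe u
open CategoryTheory AlgebraicGeometry Opposite TopologicalSpace

namespace K941.HensUniv
open K941.AppLE K941.HensSec K941.Chart K941.HensLift

/-- Morphisms of locally ringed spaces are determined by base map and `appLE`. -/
theorem hom_ext_appLE {X Y : LocallyRingedSpace.{u}} (f f' : X ⟶ Y) (hb : f.base = f'.base)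
    (h : ∀ (V : Opens Y) (U : Opens X) (h1 : U ≤ (Opens.map f.base).obj V)
      (h2 : U ≤ (Opens.map f'.base).obj V) (s : Y.presheaf.obj (op V)),
      appLE f V U h1 s = appLE f' V U h2 s) : f = f' := by
  obtain ⟨⟨b, c⟩, p⟩ := f
  obtain ⟨⟨b', c'⟩, p'⟩ := f'
  have hb' : b = b' := hb
  subst hb'
  have : c = c' := by
    ext U s
    have h1 := h U ((Opens.map b).obj U) le_rfl le_rfl s
    rw [appLE_apply, appLE_apply, res_self, res_self] at h1
    exact h1
  subst this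
  rfl

variable {X : Scheme.{u}} {Xh : LocallyRingedSpace.{u}} (ι : Xh ⟶ X.toLocallyRingedSpace)

/-- The distinguished opens of charts. -/
def Good (W : Opens Xh) : Prop :=
  ∃ (A : Type u) (_ : CommRing A) (j : Spec (CommRingCat.of A) ⟶ X) (_ : IsOpenImmersion j)
    (V : LocallyRingedSpace.{u}) (v : V ⟶ Xh) (_ : LocallyRingedSpace.IsOpenImmersion v)
    (π : V ⟶ HensSch.specLRS A) (_ : v ≫ ι = π ≫ j.toLRSHom)
    (I : Ideal A) (_ : HensSch.IsSph A I V π) (f : A), W = Wf v π f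

theorem exists_good {Y : Set X} (hh : HensSch.IsHenselizationAlong X Y Xh ι) (x : Xh) (U : Opens Xh)
    (hx : x ∈ U) : ∃ W, Good ι W ∧ x ∈ W ∧ W ≤ U := by
  obtain ⟨-, -, hr, hc⟩ := hh
  have hz : ι.base x ∈ Y := by rw [← hr]; exact ⟨x, rfl⟩
  obtain ⟨A, iA, j, ij, hj, V, v, iv, π, hv, hcomm, hs⟩ := hc _ hz
  have hz' : x ∈ Set.range v.base := by rw [hv]; exact hj
  obtain ⟨w, rfl⟩ := hz'
  obtain ⟨f, hf, hle⟩ := Sph.exists_dOpen_le hs ((Opens.map v.base).obj U) w hx
  refine ⟨Wf v π f, ⟨A, iA, j, ij, V, v, iv, π, hcomm, _, hs, f, rfl⟩, ⟨w, hf, rfl⟩, ?_⟩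
  rintro _ ⟨y, hy, rfl⟩
  exact hle hy

variable {ι}
variable {Z : LocallyRingedSpace.{u}} (g : Z ⟶ X.toLocallyRingedSpace)
  (hZ : ∀ W : Opens Z, HenselianRing (Z.presheaf.obj (op W)) (van W))
  (b : Z.toTopCat ⟶ Xh.toTopCat) (hb : ∀ z, ι.base (b z) = g.base z)

variable (ι) in
/-- Ring maps over `X`. -/
def OverX (W : Opens Xh) (W' : Opens Z)
    (k : Xh.presheaf.obj (op W) →+* Z.presheaf.obj (op W')) : Prop :=
  ∀ (Ω : Opens X.toLocallyRingedSpace) (h1 : W ≤ (Opens.map ι.base).obj Ω)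
    (h2 : W' ≤ (Opens.map g.base).obj Ω) (t : X.toLocallyRingedSpace.presheaf.obj (op Ω)),
    k (appLE ι Ω W h1 t) = appLE g Ω W' h2 t

include hZ hb in
theorem overX_ext {W : Opens Xh} (hW : Good ι W) (W' : Opens Z) (hle : W' ≤ (Opens.map b).obj W)
    (k k' : Xh.presheaf.obj (op W) →+* Z.presheaf.obj (op W')) (hk : OverX ι g W W' k)
    (hk' : OverX ι g W W' k') : k = k' := by
  obtain ⟨A, _, j, _, V, v, _, π, hcomm, I, hs, f, rfl⟩ := hW
  refine ringHom_ext g hZ j v π hcomm hs f W' (hle.trans (preim_le g b hb j v π hcomm f))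
    (fun z hz => preim_exists g b hb v π f z (hle hz)) k k' ?_ ?_
  · ext a
    exact hk _ _ _ _
  · ext a
    exact hk' _ _ _ _

include hZ hb in
theorem exists_h {W : Opens Xh} (hW : Good ι W) :
    ∃ k : Xh.presheaf.obj (op W) →+* Z.presheaf.obj (op ((Opens.map b).obj W)),
      OverX ι g W _ k := by
  obtain ⟨A, _, j, _, V, v, _, π, hcomm, I, hs, f, rfl⟩ := hW
  exact ⟨hf g hZ b hb j v π hcomm hs f, fun Ω h1 h2 t =>
    compat_hf g hZ b hb j v π hcomm hs f Ω h1 t⟩

variable (ι) in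
/-- The index set. -/
abbrev Idx : Type u := {W : Opens Xh // Good ι W}

variable (ι) in
/-- The basis. -/
def B : Idx ι → Opens Xh := fun i => i.1

theorem isBasis {Y : Set X} (hh : HensSch.IsHenselizationAlong X Y Xh ι) :
    Opens.IsBasis (Set.range (B ι)) := by
  rw [Opens.isBasis_iff_nbhd]
  intro U x hx
  obtain ⟨W, hW, hxW, hWU⟩ := exists_good ι hh x U hx
  exact ⟨W, ⟨⟨W, hW⟩, rfl⟩, hxW, hWU⟩

/-- The map on the basis. -/
noncomputable def hW (i : Idx ι) :
    Xh.presheaf.obj (op (B ι i)) →+* Z.presheaf.obj (op ((Opens.map b).obj (B ι i))) :=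
  (exists_h g hZ b hb i.2).choose

theorem hW_over (i : Idx ι) : OverX ι g (B ι i) _ (hW g hZ b hb i) :=
  (exists_h g hZ b hb i.2).choose_spec

theorem hW_res (i i' : Idx ι) (h : B ι i ≤ B ι i') (s : Xh.presheaf.obj (op (B ι i'))) :
    hW g hZ b hb i (res h s) = res ((Opens.map b).map (homOfLE h)).le (hW g hZ b hb i' s) := by
  have h1 : (hW g hZ b hb i).comp (res h) =
      (res ((Opens.map b).map (homOfLE h)).le).comp (hW g hZ b hb i') := by
    refine overX_ext g hZ b hb i'.2 _ ((Opens.map b).map (homOfLE h)).le _ _ ?_ ?_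
    · intro Ω h1 h2 t
      refine (congrArg (hW g hZ b hb i) (res_appLE ι Ω _ _ h1 h t)).trans ?_
      exact hW_over g hZ b hb i Ω (h.trans h1) h2 t
    · intro Ω h1 h2 t
      refine (congrArg (res _) (hW_over g hZ b hb i' Ω h1 (le_of_le g b hb h1) t)).trans ?_
      exact res_appLE g Ω _ _ _ _ t
  exact congrArg (fun k => k s) h1

/-- The natural transformation on the basis. -/
noncomputable def cB : (inducedFunctor (B ι)).op ⋙ Xh.presheaf ⟶
    (inducedFunctor (B ι)).op ⋙ ((TopCat.Sheaf.pushforward _ b).obj Z.sheaf).1 where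
  app i := CommRingCat.ofHom (hW g hZ b hb i.unop)
  naturality i i' f := by
    ext s
    exact hW_res g hZ b hb i'.unop i.unop (f.unop.hom.le) s

/-- The sheaf map. -/
noncomputable def cc (hB : Opens.IsBasis (Set.range (B ι))) :
    Xh.presheaf ⟶ ((TopCat.Sheaf.pushforward _ b).obj Z.sheaf).1 :=
  TopCat.Sheaf.restrictHomEquivHom Xh.presheaf ((TopCat.Sheaf.pushforward _ b).obj Z.sheaf) hB
    (cB g hZ b hb)

theorem cc_app (hB : Opens.IsBasis (Set.range (B ι))) (i : Idx ι) :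
    (cc g hZ b hb hB).app (op (B ι i)) = CommRingCat.ofHom (hW g hZ b hb i) :=
  TopCat.Sheaf.extend_hom_app Xh.presheaf _ hB (cB g hZ b hb) i

/-- The morphism of presheafed spaces. -/
noncomputable def gg (hB : Opens.IsBasis (Set.range (B ι))) :
    Z.toPresheafedSpace ⟶ Xh.toPresheafedSpace :=
  ⟨b, cc g hZ b hb hB⟩

theorem germ_stalkMap_gg (hB : Opens.IsBasis (Set.range (B ι))) (z : Z) (W : Opens Xh)
    (hz : b z ∈ W) (s : Xh.presheaf.obj (op W)) :
    ((gg g hZ b hb hB).stalkMap z).hom (Xh.presheaf.germ W (b z) hz s) =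
      Z.presheaf.germ ((Opens.map b).obj W) z hz ((cc g hZ b hb hB).app (op W) s) :=
  PresheafedSpace.stalkMap_germ_apply (gg g hZ b hb hB) W z hz s

theorem transport_isUnit {Y : LocallyRingedSpace.{u}} {Ω : Opens Y} (t : Y.presheaf.obj (op Ω))
    {y y' : Y} (e : y = y') (hy : y ∈ Ω) (hy' : y' ∈ Ω)
    (h : IsUnit (Y.presheaf.germ Ω y hy t)) : IsUnit (Y.presheaf.germ Ω y' hy' t) := by
  subst e; exact h

section

variable {A : Type u} [CommRing A] (j : Spec (CommRingCat.of A) ⟶ X) [IsOpenImmersion j]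
  {V : LocallyRingedSpace.{u}} (v : V ⟶ Xh) [LocallyRingedSpace.IsOpenImmersion v]
  (π : V ⟶ HensSch.specLRS A) (hcomm : v ≫ ι = π ≫ j.toLRSHom)
  {I : Ideal A} (hs : HensSch.IsSph A I V π)

include hb hcomm hs in
theorem isUnit_of_isUnit_k (f : A)
    (k : Xh.presheaf.obj (op (Wf v π f)) →+* Z.presheaf.obj (op ((Opens.map b).obj (Wf v π f))))
    (hk : OverX ι g _ _ k) (z : Z) (hz : b z ∈ Wf v π f) (s : Xh.presheaf.obj (op (Wf v π f)))
    (hu : IsUnit (Z.presheaf.germ ((Opens.map b).obj (Wf v π f)) z hz (k s))) :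
    IsUnit (Xh.presheaf.germ (Wf v π f) (b z) hz s) := by
  by_contra hns
  have hpre := preim_le g b hb j v π hcomm f
  have hk' : ∀ a, k (ga j v π hcomm f a) = de g j _ hpre a := fun a => hk _ _ _ _
  obtain ⟨w, hw, hwz⟩ := id hz
  obtain ⟨a, n, hmem⟩ := HensAway.exists_pow_mul_sub_mem (isHensAway_ga j v π hcomm hs f) s
  -- the ideal maps into the maximal ideals
  have h1 : I.map (ga j v π hcomm f) ≤ van (Wf v π f) := by
    refine map_de_le ι j v π hcomm hs (Wf v π f) (Wf_le j v π hcomm f) ?_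
    rintro _ ⟨w, _, rfl⟩
    exact ⟨w, rfl⟩
  have h2 : I.map (ga j v π hcomm f) ≤ (van ((Opens.map b).obj (Wf v π f))).comap k := by
    rw [← Ideal.map_le_iff_le_comap, Ideal.map_map]
    have : k.comp (ga j v π hcomm f) = de g j _ hpre := RingHom.ext hk'
    rw [this]
    exact map_de_le g j v π hcomm hs _ _ fun z hz => (preim_exists g b hb v π f z hz).imp
      fun w hw => hw.1
  have h3 := (mem_van _).mp (h1 hmem) (b z) hz
  have h4 := (mem_van _).mp (h2 hmem) z hz
  rw [map_sub, map_mul, map_pow] at h3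
  have h5 : Xh.presheaf.germ (Wf v π f) (b z) hz (ga j v π hcomm f a) ∈
      IsLocalRing.maximalIdeal (Xh.presheaf.stalk (b z)) := by
    have : Xh.presheaf.germ (Wf v π f) (b z) hz s ∈
      IsLocalRing.maximalIdeal (Xh.presheaf.stalk (b z)) := hns
    have h6 := Ideal.sub_mem _ (Ideal.mul_mem_left _
      (Xh.presheaf.germ (Wf v π f) (b z) hz (ga j v π hcomm f f) ^ n) this) h3
    rw [sub_sub_cancel] at h6
    exact h6
  have hbz : b z ∈ (Opens.map ι.base).obj (Om j) := Wf_le j v π hcomm f hz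
  have h6 : ¬ IsUnit (X.toLocallyRingedSpace.presheaf.germ (Om j) (ι.base (b z)) hbz (al j a)) := by
    intro hc
    apply h5
    have := hc.map (ι.stalkMap (b z)).hom
    rw [ga, RingHom.comp_apply, germ_appLE]
    exact this
  have hgz : g.base z ∈ Om j := hpre hz
  have h7 : Z.presheaf.germ ((Opens.map b).obj (Wf v π f)) z hz (k (ga j v π hcomm f a)) ∈
      IsLocalRing.maximalIdeal (Z.presheaf.stalk z) := by
    rw [hk', de, RingHom.comp_apply, germ_appLE, IsLocalRing.mem_maximalIdeal, mem_nonunits_iff]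
    intro hc
    have h8 := (isUnit_map_iff (g.stalkMap z).hom _).mp hc
    exact h6 (transport_isUnit (al j a) (hb z).symm hgz hbz h8)
  rw [map_sub, map_mul, map_pow, map_sub, map_mul, map_pow] at h4
  have h8 := Ideal.add_mem _ h4 h7
  rw [sub_add_cancel] at h8
  apply h8
  refine IsUnit.mul (IsUnit.pow n ?_) hu
  rw [hk']
  exact (isUnit_de g j v π hcomm _ _ f (preim_exists g b hb v π f)).map
    (Z.presheaf.germ ((Opens.map b).obj (Wf v π f)) z hz).hom

end

include hb in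
theorem isUnit_of_isUnit_good {W : Opens Xh} (hW : Good ι W)
    (k : Xh.presheaf.obj (op W) →+* Z.presheaf.obj (op ((Opens.map b).obj W)))
    (hk : OverX ι g _ _ k) (z : Z) (hz : b z ∈ W) (s : Xh.presheaf.obj (op W))
    (hu : IsUnit (Z.presheaf.germ ((Opens.map b).obj W) z hz (k s))) :
    IsUnit (Xh.presheaf.germ W (b z) hz s) := by
  obtain ⟨A, _, j, _, V, v, _, π, hcomm, I, hs, f, rfl⟩ := hW
  exact isUnit_of_isUnit_k g b hb j v π hcomm hs f k hk z hz s hu

/-- Locality. -/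
theorem isLocalHom_gg {Y : Set X} (hh : HensSch.IsHenselizationAlong X Y Xh ι) (z : Z) :
    IsLocalHom ((gg g hZ b hb (isBasis hh)).stalkMap z).hom := by
  constructor
  intro a ha
  obtain ⟨U, hzU, s₀, rfl⟩ := TopCat.Presheaf.exists_germ_eq Xh.presheaf (x := b z) a
  obtain ⟨W, hW, hzW, hWU⟩ := exists_good ι hh (b z) U hzU
  have e1 : Xh.presheaf.germ U (b z) hzU s₀ = Xh.presheaf.germ W (b z) hzW (res hWU s₀) :=
    (germ_res hWU (b z) hzW s₀).symm
  have ha' : IsUnit (((gg g hZ b hb (isBasis hh)).stalkMap z).hom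
      (Xh.presheaf.germ U (b z) hzU s₀)) := ha
  rw [e1] at ha'
  change IsUnit (Xh.presheaf.germ U (b z) hzU s₀)
  rw [e1]
  rw [germ_stalkMap_gg] at ha'
  refine isUnit_of_isUnit_good g b hb hW (K941.HensUniv.hW g hZ b hb ⟨W, hW⟩)
    (hW_over g hZ b hb ⟨W, hW⟩) z hzW _ ?_
  have e2 := cc_app g hZ b hb (isBasis hh) ⟨W, hW⟩
  have e3 : (cc g hZ b hb (isBasis hh)).app (op W) (res hWU s₀) =
      K941.HensUniv.hW g hZ b hb ⟨W, hW⟩ (res hWU s₀) := congrArg (fun k => k.hom (res hWU s₀)) e2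
  have e4 := congrArg (Z.presheaf.germ ((Opens.map b).obj W) z hzW) e3
  exact e4 ▸ ha'

/-- The morphism `Z ⟶ Xh`. -/
noncomputable def gHom {Y : Set X} (hh : HensSch.IsHenselizationAlong X Y Xh ι) : Z ⟶ Xh where
  __ := gg g hZ b hb (isBasis hh)
  prop := isLocalHom_gg g hZ b hb hh

theorem appLE_gHom {Y : Set X} (hh : HensSch.IsHenselizationAlong X Y Xh ι) {W : Opens Xh}
    (hW : Good ι W) (W' : Opens Z) (h : W' ≤ (Opens.map b).obj W) (s : Xh.presheaf.obj (op W)) :
    appLE (gHom g hZ b hb hh) W W' h s = res h (K941.HensUniv.hW g hZ b hb ⟨W, hW⟩ s) := by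
  rw [appLE_apply]
  have e2 := cc_app g hZ b hb (isBasis hh) ⟨W, hW⟩
  have e3 : (cc g hZ b hb (isBasis hh)).app (op W) s =
      K941.HensUniv.hW g hZ b hb ⟨W, hW⟩ s := congrArg (fun k => k.hom s) e2
  rw [← e3]
  rfl

theorem gHom_ι {Y : Set X} (hh : HensSch.IsHenselizationAlong X Y Xh ι) :
    gHom g hZ b hb hh ≫ ι = g := by
  apply hom_ext_appLE
  · ext z
    exact hb z
  · intro Ω U h1 h2 t
    apply section_ext
    intro z hz
    obtain ⟨W, hW, hzW, hWU⟩ := exists_good ι hh (b z) ((Opens.map ι.base).obj Ω) (h1 hz)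
    have hzU : z ∈ U ⊓ (Opens.map b).obj W := ⟨hz, hzW⟩
    rw [← germ_res (inf_le_left : U ⊓ (Opens.map b).obj W ≤ U) z hzU,
      ← germ_res (inf_le_left : U ⊓ (Opens.map b).obj W ≤ U) z hzU, res_appLE, res_appLE]
    have e1 := appLE_comp (gHom g hZ b hb hh) ι Ω W (U ⊓ (Opens.map b).obj W) hWU inf_le_right t
    have e2 := appLE_gHom g hZ b hb hh hW (U ⊓ (Opens.map b).obj W) inf_le_right
      (appLE ι Ω W hWU t)
    have e3 := congrArg (res (inf_le_right : U ⊓ (Opens.map b).obj W ≤ _))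
      (hW_over g hZ b hb ⟨W, hW⟩ Ω hWU (le_of_le g b hb hWU) t)
    have e4 := res_appLE g Ω _ (U ⊓ (Opens.map b).obj W) (le_of_le g b hb hWU) inf_le_right t
    exact congrArg (Z.presheaf.germ (U ⊓ (Opens.map b).obj W) z hzU)
      (e1.symm.trans (e2.trans (e3.trans e4)))

include hZ in
theorem unique {Y : Set X} (hh : HensSch.IsHenselizationAlong X Y Xh ι) (g₁ g₂ : Z ⟶ Xh)
    (h₁ : g₁ ≫ ι = g) (h₂ : g₂ ≫ ι = g) : g₁ = g₂ := by
  have hbase : g₁.base = g₂.base := by
    ext z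
    apply hh.2.1.injective
    have e1 : ι.base (g₁.base z) = g.base z := congrArg (fun k => k.base z) h₁
    have e2 : ι.base (g₂.base z) = g.base z := congrArg (fun k => k.base z) h₂
    exact e1.trans e2.symm
  have hb : ∀ z, ι.base (g₁.base z) = g.base z := fun z => congrArg (fun k => k.base z) h₁
  apply hom_ext_appLE _ _ hbase
  intro Ω U k1 k2 t
  apply section_ext
  intro z hz
  obtain ⟨W, hW, hzW, hWU⟩ := exists_good ι hh (g₁.base z) Ω (k1 hz)
  have hzU : z ∈ U ⊓ (Opens.map g₁.base).obj W := ⟨hz, hzW⟩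
  have hle2 : U ⊓ (Opens.map g₁.base).obj W ≤ (Opens.map g₂.base).obj W := by
    rw [← hbase]; exact inf_le_right
  have key := overX_ext g hZ g₁.base hb hW (U ⊓ (Opens.map g₁.base).obj W) inf_le_right
    (appLE g₁ W _ inf_le_right) (appLE g₂ W _ hle2)
    (fun Ω' l1 l2 t' => by rw [appLE_comp, appLE_congr h₁])
    (fun Ω' l1 l2 t' => by rw [appLE_comp, appLE_congr h₂])
  rw [← germ_res (inf_le_left : U ⊓ (Opens.map g₁.base).obj W ≤ U) z hzU,
    ← germ_res (inf_le_left : U ⊓ (Opens.map g₁.base).obj W ≤ U) z hzU, res_appLE, res_appLE,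
    ← appLE_res g₁ Ω W _ hWU inf_le_right, ← appLE_res g₂ Ω W _ hWU hle2, key]

/-- The universal property. -/
theorem existsUnique {Y : Set X} (hh : HensSch.IsHenselizationAlong X Y Xh ι)
    (hZ' : HensSch.IsHensScheme Z) (hg : Set.range g.base ⊆ Y) : ∃! g' : Z ⟶ Xh, g' ≫ ι = g := by
  have hZ : ∀ W : Opens Z, HenselianRing (Z.presheaf.obj (op W)) (van W) :=
    henselianRing_sections hZ'
  have h1 : ∀ z : Z, ∃ x : Xh, ι.base x = g.base z := by
    intro z
    have : g.base z ∈ Set.range ι.base := by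
      rw [hh.2.2.1]
      exact hg ⟨z, rfl⟩
    exact this
  choose b₀ hb₀ using h1
  have hcont : Continuous b₀ := by
    rw [hh.2.1.isInducing.continuous_iff]
    have : ι.base ∘ b₀ = g.base := funext hb₀
    rw [this]
    exact g.base.hom.continuous
  let b : Z.toTopCat ⟶ Xh.toTopCat := TopCat.ofHom ⟨b₀, hcont⟩
  exact ⟨gHom g hZ b hb₀ hh, gHom_ι g hZ b hb₀ hh, fun g' hg' =>
    unique g hZ hh _ _ hg' (gHom_ι g hZ b hb₀ hh)⟩

end K941.HensUniv
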