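import Mathlib.RingTheory.Ideal.Quotient.Operations
import Mathlib.RingTheory.IsTensorProduct
import Mathlib.Algebra.Module.Torsion.Basic

/-!
# Ring maps inducing an isomorphism modulo an ideal, elementwise
-/

set_option autoImplicit false
universe u v

namespace K941.QB

open TensorProduct

variable {R S T : Type u} [CommRing R] [CommRing S] [CommRing T]

/-- `φ : R → S` induces a bijection `R/K → S/KS`. -/
def QB (φ : R →+* S) (K : Ideal R) : Prop :=
  (∀ s : S, ∃ r : R, s - φ r ∈ K.map φ) ∧ ∀ r : R, φ r ∈ K.map φ → r ∈ K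

theorem qb_iff (φ : R →+* S) (K : Ideal R) :
    QB φ K ↔ Function.Bijective (Ideal.quotientMap (K.map φ) φ Ideal.le_comap_map) := by
  constructor
  · rintro ⟨h1, h2⟩
    constructor
    · rw [injective_iff_map_eq_zero]
      intro x hx
      obtain ⟨r, rfl⟩ := Ideal.Quotient.mk_surjective x
      rw [Ideal.quotientMap_mk, Ideal.Quotient.eq_zero_iff_mem] at hx
      rw [Ideal.Quotient.eq_zero_iff_mem]
      exact h2 r hx
    · intro y
      obtain ⟨s, rfl⟩ := Ideal.Quotient.mk_surjective y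
      obtain ⟨r, hr⟩ := h1 s
      refine ⟨Ideal.Quotient.mk K r, ?_⟩
      rw [Ideal.quotientMap_mk, eq_comm, Ideal.Quotient.eq]
      exact hr
  · rintro ⟨h1, h2⟩
    constructor
    · intro s
      obtain ⟨r, hr⟩ := h2 (Ideal.Quotient.mk _ s)
      obtain ⟨r, rfl⟩ := Ideal.Quotient.mk_surjective r
      rw [Ideal.quotientMap_mk, eq_comm, Ideal.Quotient.eq] at hr
      exact ⟨r, hr⟩
    · intro r hr
      rw [← Ideal.Quotient.eq_zero_iff_mem]
      apply h1
      rw [Ideal.quotientMap_mk, map_zero, Ideal.Quotient.eq_zero_iff_mem]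
      exact hr

theorem QB.mono {φ : R →+* S} {K K' : Ideal R} (h : QB φ K) (hK : K ≤ K') : QB φ K' := by
  refine ⟨fun s => ?_, fun r hr => ?_⟩
  · obtain ⟨r, hr⟩ := h.1 s
    exact ⟨r, Ideal.map_mono hK hr⟩
  · have hb := (qb_iff φ K).mp h
    let e := RingEquiv.ofBijective _ hb
    have h1 : Ideal.Quotient.mk (K.map φ) (φ r) ∈ (K'.map φ).map (Ideal.Quotient.mk (K.map φ)) :=
      Ideal.mem_map_of_mem _ hr
    have h2 : (Ideal.Quotient.mk (K.map φ)).comp φ =
        (e : R ⧸ K →+* S ⧸ K.map φ).comp (Ideal.Quotient.mk K) := by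
      ext a
      rfl
    rw [Ideal.map_map, h2, ← Ideal.map_map] at h1
    have h3 : (Ideal.Quotient.mk (K.map φ) (φ r)) = e (Ideal.Quotient.mk K r) := rfl
    rw [h3] at h1
    have h4 := Ideal.mem_map_of_mem (e.symm : S ⧸ K.map φ →+* R ⧸ K) h1
    have h5 : (e.symm : S ⧸ K.map φ →+* R ⧸ K).comp (e : R ⧸ K →+* S ⧸ K.map φ) =
      RingHom.id _ := RingHom.ext fun a => e.symm_apply_apply a
    rw [Ideal.map_map, h5, Ideal.map_id] at h4
    have h6 : (e.symm : S ⧸ K.map φ →+* R ⧸ K) (e (Ideal.Quotient.mk K r)) =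
      Ideal.Quotient.mk K r := e.symm_apply_apply _
    rw [h6, Ideal.mem_quotient_iff_mem hK] at h4
    exact h4

/-- Precomposition with a bijective ring map. -/
theorem QB.comp_bijective {φ : S →+* T} {ψ : R →+* S} (hψ : Function.Bijective ψ) {K : Ideal R}
    (h : QB φ (K.map ψ)) : QB (φ.comp ψ) K := by
  refine ⟨fun t => ?_, fun r hr => ?_⟩
  · obtain ⟨s, hs⟩ := h.1 t
    obtain ⟨r, rfl⟩ := hψ.2 s
    rw [Ideal.map_map] at hs
    exact ⟨r, hs⟩
  · rw [← Ideal.map_map] at hr
    have h1 := h.2 (ψ r) hr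
    obtain ⟨r', hr', e⟩ := (Ideal.mem_map_iff_of_surjective ψ hψ.2).mp h1
    rwa [← hψ.1 e]

/-- Postcomposition with a bijective ring map. -/
theorem QB.of_bijective_comp {φ : R →+* S} {ψ : S →+* T} (hψ : Function.Bijective ψ) {K : Ideal R}
    (h : QB (ψ.comp φ) K) : QB φ K := by
  have key : ∀ s : S, ψ s ∈ K.map (ψ.comp φ) → s ∈ K.map φ := by
    intro s hs
    rw [← Ideal.map_map] at hs
    obtain ⟨s', hs', e⟩ := (Ideal.mem_map_iff_of_surjective ψ hψ.2).mp hs
    rwa [← hψ.1 e]
  refine ⟨fun s => ?_, fun r hr => ?_⟩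
  · obtain ⟨r, hr⟩ := h.1 (ψ s)
    refine ⟨r, key _ ?_⟩
    rw [map_sub]
    exact hr
  · apply h.2
    rw [← Ideal.map_map]
    exact Ideal.mem_map_of_mem ψ hr

/-- If `R/K = S/KS` and `N` is killed by `K`, then `N → S ⊗_R N` is bijective. -/
theorem bijective_of_isBaseChange [Algebra R S] {K : Ideal R} (h : QB (algebraMap R S) K)
    {N M : Type u} [AddCommGroup N] [Module R N] [AddCommGroup M] [Module R M] [Module S M]
    [IsScalarTower R S M] (f : N →ₗ[R] M) (hf : IsBaseChange S f)
    (hN : ∀ k ∈ K, ∀ n : N, k • n = 0) : Function.Bijective f := by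
  constructor
  · -- `N` is an `S`-module
    have hb := (qb_iff (algebraMap R S) K).mp h
    let e := RingEquiv.ofBijective _ hb
    have ht : Module.IsTorsionBySet R N K := fun n k => hN k.1 k.2 n
    letI : Module (R ⧸ K) N := ht.module
    let c : S →+* R ⧸ K :=
      (e.symm : S ⧸ K.map (algebraMap R S) →+* R ⧸ K).comp (Ideal.Quotient.mk _)
    letI : Module S N := Module.compHom N c
    have hc : ∀ r : R, c (algebraMap R S r) = Ideal.Quotient.mk K r := by
      intro r
      change e.symm (Ideal.Quotient.mk _ (algebraMap R S r)) = _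
      rw [RingEquiv.symm_apply_eq]
      rfl
    haveI : IsScalarTower R S N := ⟨fun r s n => by
      change c (r • s) • n = r • (c s • n)
      rw [Algebra.smul_def, map_mul, hc, mul_smul]
      rfl⟩
    have h1 := hf.lift_comp (LinearMap.id : N →ₗ[R] N)
    intro a b hab
    have h2 := LinearMap.congr_fun h1 a
    have h3 := LinearMap.congr_fun h1 b
    change hf.lift LinearMap.id (f a) = a at h2
    change hf.lift LinearMap.id (f b) = b at h3
    rw [← h2, ← h3, hab]
  · have hK : ∀ s ∈ K.map (algebraMap R S), ∀ n : N, s • f n = 0 := by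
      intro s hs n
      have : K.map (algebraMap R S) ≤ (LinearMap.ker (LinearMap.toSpanSingleton S M (f n))) := by
        rw [Ideal.map, Ideal.span_le]
        rintro _ ⟨k, hk, rfl⟩
        change algebraMap R S k • f n = 0
        rw [algebraMap_smul, ← f.map_smul, hN k hk, map_zero]
      exact this hs
    intro m
    induction m using hf.inductionOn with
    | zero => exact ⟨0, map_zero f⟩
    | tmul n => exact ⟨n, rfl⟩
    | smul s m hm =>
      obtain ⟨n, rfl⟩ := hm
      obtain ⟨r, hr⟩ := h.1 s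
      refine ⟨r • n, ?_⟩
      have h1 := hK _ hr n
      rw [sub_smul, sub_eq_zero, algebraMap_smul, ← f.map_smul] at h1
      exact h1.symm
    | add m m' hm hm' =>
      obtain ⟨n, rfl⟩ := hm
      obtain ⟨n', rfl⟩ := hm'
      exact ⟨n + n', map_add f n n'⟩

end K941.QB
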