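import Groth.Prelude.Def_HensSch
import Mathlib.Algebra.Category.ModuleCat.Stalk
import Mathlib.RingTheory.IsTensorProduct

/-!
# Skyscraper sheaves of modules on a locally ringed space and linear maps out of stalks

For `x : X` and a module `Q` over `O_{X,x}`, the O_X-module `sky x Q` with sections
`U ↦ (x ∈ U → Q)`, and the bijection `(M ⟶ sky x Q) ≃ (M_x →ₗ[O_{X,x}] Q)`.
(The same as `Groth.Agent.Fdesc.Skyscraper`, for locally ringed spaces instead of schemes.)
-/

set_option autoImplicit false
set_option linter.unusedVariables false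
set_option linter.unusedSectionVars false
universe u
open CategoryTheory AlgebraicGeometry TopologicalSpace Opposite

namespace K941.Sky

section StalkDesc

variable {X : TopCat.{u}} (F : TopCat.Presheaf Ab.{u} X) (x : X) (A : Type u) [AddCommGroup A]

/-- Maps out of a stalk from a compatible family of maps on sections. -/
noncomputable def stalkDesc (φ : ∀ (U : Opens X), x ∈ U → (F.obj (op U) →+ A))
    (hφ : ∀ (U V : Opens X) (i : U ⟶ V) (hU : x ∈ U) (s : F.obj (op V)),
      φ U hU (F.map i.op s) = φ V (leOfHom i hU) s) : F.stalk x →+ A :=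
  (Limits.colimit.desc ((OpenNhds.inclusion x).op ⋙ F)
    (Limits.Cocone.mk (AddCommGrpCat.of A)
      { app := fun U => AddCommGrpCat.ofHom (φ U.unop.1 U.unop.2)
        naturality := fun U V i => by
          ext s
          exact hφ _ _ _ _ _ })).hom

theorem stalkDesc_germ (φ : ∀ (U : Opens X), x ∈ U → (F.obj (op U) →+ A))
    (hφ : ∀ (U V : Opens X) (i : U ⟶ V) (hU : x ∈ U) (s : F.obj (op V)),
      φ U hU (F.map i.op s) = φ V (leOfHom i hU) s) (U : Opens X) (hU : x ∈ U) (s : F.obj (op U)) :
    stalkDesc F x A φ hφ (F.germ U x hU s) = φ U hU s := by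
  have h := Limits.colimit.ι_desc (F := (OpenNhds.inclusion x).op ⋙ F)
    (Limits.Cocone.mk (AddCommGrpCat.of A)
      { app := fun U => AddCommGrpCat.ofHom (φ U.unop.1 U.unop.2)
        naturality := fun U V i => by
          ext s
          exact hφ _ _ _ _ _ }) (op ⟨U, hU⟩)
  exact ConcreteCategory.congr_hom h s

theorem stalk_hom_ext {B : Type*} [AddCommGroup B] {f g : F.stalk x →+ B}
    (h : ∀ (U : Opens X) (hU : x ∈ U) (s : F.obj (op U)), f (F.germ U x hU s) = g (F.germ U x hU s)) :
    f = g := by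
  ext t
  obtain ⟨U, hU, s, rfl⟩ := TopCat.Presheaf.exists_germ_eq F t
  exact h U hU s

end StalkDesc

/-- Presheaves of modules on a locally ringed space. -/
abbrev PMod (X : LocallyRingedSpace.{u}) := PresheafOfModules.{u} (ModSite.ringSh X.sheaf).obj

/-- Sheaves of modules on a locally ringed space. -/
abbrev SMod (X : LocallyRingedSpace.{u}) := ModSite.Mod X.sheaf

variable {X : LocallyRingedSpace.{u}}

/-- The abelian presheaf of a presheaf of modules. -/
noncomputable abbrev psh (P : PMod X) : TopCat.Presheaf Ab.{u} X.toTopCat := PresheafOfModules.presheaf P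

/-- The abelian presheaf of a sheaf of modules. -/
noncomputable abbrev pr (M : SMod X) : TopCat.Presheaf Ab.{u} X.toTopCat := psh M.val

/-- The stalk of a presheaf of modules is a module over the local ring. -/
noncomputable instance preStalkModule (P : PMod X) (x : X) :
    Module (X.presheaf.stalk x) ((psh P).stalk x) :=
  inferInstanceAs (Module (X.presheaf.stalk x) ↑(TopCat.Presheaf.stalk (PresheafOfModules.presheaf
    (R := X.presheaf ⋙ forget₂ CommRingCat RingCat)
    (show PresheafOfModules (X.presheaf ⋙ forget₂ CommRingCat RingCat) from P)) x))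

noncomputable instance preSecModule (P : PMod X) (U : Opens X) :
    Module (X.presheaf.obj (op U)) ((psh P).obj (op U)) :=
  inferInstanceAs (Module ((ModSite.ringSh X.sheaf).obj.obj (op U)) (P.obj (op U)))

theorem pre_germ_smul (P : PMod X) (x : X) (U : Opens X) (hx : x ∈ U) (r : X.presheaf.obj (op U))
    (m : (psh P).obj (op U)) :
    (psh P).germ U x hx (r • m) = X.presheaf.germ U x hx r • (psh P).germ U x hx m :=
  PresheafOfModules.germ_smul (R := X.presheaf)
    (show PresheafOfModules (X.presheaf ⋙ forget₂ CommRingCat RingCat) from P) x U hx r m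

theorem pre_map_smul (P : PMod X) {U V : Opens X} (i : U ⟶ V) (r : X.presheaf.obj (op V))
    (m : (psh P).obj (op V)) :
    (psh P).map i.op (r • m) =
      HSMul.hSMul (α := X.presheaf.obj (op U)) (β := (psh P).obj (op U))
        (X.presheaf.map i.op r) ((psh P).map i.op m) :=
  PresheafOfModules.map_smul P i.op r m

/-- every pair (scalar, element) of the stalks comes from a common neighbourhood. -/
theorem exists_common (P : PMod X) (x : X) (r : X.presheaf.stalk x)
    (s : (psh P).stalk x) : ∃ (U : Opens X) (hU : x ∈ U) (r' : X.presheaf.obj (op U))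
      (s' : (psh P).obj (op U)),
      X.presheaf.germ U x hU r' = r ∧ (psh P).germ U x hU s' = s := by
  obtain ⟨U, hU, m, rfl⟩ := TopCat.Presheaf.exists_germ_eq (psh P) s
  obtain ⟨V, hV, r, rfl⟩ := TopCat.Presheaf.exists_germ_eq X.presheaf r
  refine ⟨U ⊓ V, ⟨hU, hV⟩, X.presheaf.map (homOfLE inf_le_right).op r,
    (psh P).map (homOfLE inf_le_left).op m, ?_, ?_⟩
  · exact TopCat.Presheaf.germ_res_apply X.presheaf (homOfLE inf_le_right) x ⟨hU, hV⟩ r
  · exact TopCat.Presheaf.germ_res_apply (psh P) (homOfLE inf_le_left) x ⟨hU, hV⟩ m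

/-- Maps out of the stalk of a presheaf of modules. -/
noncomputable def stalkDescₗ (P : PMod X) (x : X) (Q : Type u) [AddCommGroup Q]
    [Module (X.presheaf.stalk x) Q]
    (φ : ∀ (U : Opens X), x ∈ U → ((psh P).obj (op U) →+ Q))
    (hφ : ∀ (U V : Opens X) (i : U ⟶ V) (hU : x ∈ U) (s : (psh P).obj (op V)),
      φ U hU ((psh P).map i.op s) = φ V (leOfHom i hU) s)
    (hφ' : ∀ (U : Opens X) (hU : x ∈ U) (r : X.presheaf.obj (op U)) (s : (psh P).obj (op U)),
      φ U hU (r • s) = X.presheaf.germ U x hU r • φ U hU s) :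
    (psh P).stalk x →ₗ[X.presheaf.stalk x] Q where
  toFun := stalkDesc (psh P) x Q φ hφ
  map_add' := map_add _
  map_smul' r s := by
    obtain ⟨U, hU, r, s, rfl, rfl⟩ := exists_common P x r s
    rw [← pre_germ_smul]
    erw [stalkDesc_germ, stalkDesc_germ]
    exact hφ' U hU r s

theorem stalkDescₗ_germ (P : PMod X) (x : X) (Q : Type u) [AddCommGroup Q]
    [Module (X.presheaf.stalk x) Q]
    (φ : ∀ (U : Opens X), x ∈ U → ((psh P).obj (op U) →+ Q))
    (hφ : ∀ (U V : Opens X) (i : U ⟶ V) (hU : x ∈ U) (s : (psh P).obj (op V)),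
      φ U hU ((psh P).map i.op s) = φ V (leOfHom i hU) s)
    (hφ' : ∀ (U : Opens X) (hU : x ∈ U) (r : X.presheaf.obj (op U)) (s : (psh P).obj (op U)),
      φ U hU (r • s) = X.presheaf.germ U x hU r • φ U hU s)
    (U : Opens X) (hU : x ∈ U) (s : (psh P).obj (op U)) :
    stalkDescₗ P x Q φ hφ hφ' ((psh P).germ U x hU s) = φ U hU s :=
  stalkDesc_germ (psh P) x Q φ hφ U hU s

section Sky

variable (x : X) (Q : Type u) [AddCommGroup Q] [Module (X.presheaf.stalk x) Q]

/-- Sections over `U` of the skyscraper module. -/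
def Sec (U : Opens X) : Type u := PLift (x ∈ U) → Q

noncomputable instance (U : Opens X) : AddCommGroup (Sec x Q U) :=
  inferInstanceAs (AddCommGroup (PLift (x ∈ U) → Q))

noncomputable instance (U : Opens X) : Module (X.presheaf.obj (op U)) (Sec x Q U) where
  smul r s := fun h => X.presheaf.germ U x h.down r • s h
  one_smul s := by
    funext h
    change X.presheaf.germ U x h.down 1 • s h = s h
    rw [map_one, one_smul]
  mul_smul r r' s := by
    funext h
    change X.presheaf.germ U x h.down (r * r') • s h =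
      X.presheaf.germ U x h.down r • X.presheaf.germ U x h.down r' • s h
    rw [map_mul, mul_smul]
  smul_zero r := by
    funext h
    change X.presheaf.germ U x h.down r • (0 : Q) = 0
    rw [smul_zero]
  smul_add r s t := by
    funext h
    change X.presheaf.germ U x h.down r • (s h + t h) =
      X.presheaf.germ U x h.down r • s h + X.presheaf.germ U x h.down r • t h
    rw [smul_add]
  add_smul r r' s := by
    funext h
    change X.presheaf.germ U x h.down (r + r') • s h =
      X.presheaf.germ U x h.down r • s h + X.presheaf.germ U x h.down r' • s h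
    rw [map_add, add_smul]
  zero_smul s := by
    funext h
    change X.presheaf.germ U x h.down 0 • s h = 0
    rw [map_zero, zero_smul]

/-- The abelian presheaf underlying the skyscraper module. -/
noncomputable def skyAb : TopCat.Presheaf Ab.{u} X.toTopCat where
  obj U := AddCommGrpCat.of (Sec x Q U.unop)
  map {U V} i := AddCommGrpCat.ofHom
    { toFun := fun s h => s ⟨leOfHom i.unop h.down⟩
      map_zero' := rfl
      map_add' := fun _ _ => rfl }
  map_id U := rfl
  map_comp f g := rfl

theorem skyAb_map_apply {U V : (Opens X)ᵒᵖ} (i : U ⟶ V) (s : Sec x Q U.unop) (h : PLift (x ∈ V.unop)) :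
    ((skyAb x Q).map i s : Sec x Q V.unop) h = s ⟨leOfHom i.unop h.down⟩ := rfl

noncomputable instance (U : (Opens X)ᵒᵖ) :
    Module ((ModSite.ringSh X.sheaf).obj.obj U) ((skyAb x Q).obj U) :=
  inferInstanceAs (Module (X.presheaf.obj (op U.unop)) (Sec x Q U.unop))

theorem sky_smul_apply (U : Opens X) (r : X.presheaf.obj (op U)) (s : Sec x Q U)
    (h : PLift (x ∈ U)) :
    (r • s) h = X.presheaf.germ U x h.down r • s h := rfl

/-- The presheaf of modules. -/
noncomputable def skyPre : PMod X :=
  PresheafOfModules.ofPresheaf (skyAb x Q) (by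
    intro U V f r m
    funext h
    change X.presheaf.germ U.unop x (leOfHom f.unop h.down) r • (m : Sec x Q U.unop) ⟨leOfHom f.unop h.down⟩ =
      X.presheaf.germ V.unop x h.down (X.presheaf.map f r) • (m : Sec x Q U.unop) ⟨leOfHom f.unop h.down⟩
    congr 1
    exact (TopCat.Presheaf.germ_res_apply X.presheaf f.unop x h.down r).symm)

theorem skyAb_isSheaf : Presheaf.IsSheaf (Opens.grothendieckTopology X) (skyAb x Q) := by
  refine (TopCat.Presheaf.isSheaf_iff_isSheafUniqueGluing (skyAb x Q)).mpr ?_
  intro ι U sf hsf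
  have key : ∀ (i j : ι) (hi : x ∈ U i) (hj : x ∈ U j),
      (sf i : Sec x Q (U i)) ⟨hi⟩ = (sf j : Sec x Q (U j)) ⟨hj⟩ := fun i j hi hj =>
    congrFun (hsf i j : (_ : Sec x Q (U i ⊓ U j)) = _) ⟨⟨hi, hj⟩⟩
  refine ⟨(fun h => (sf (Opens.mem_iSup.mp h.down).choose : Sec x Q _)
    ⟨(Opens.mem_iSup.mp h.down).choose_spec⟩ : Sec x Q (iSup U)), ?_, ?_⟩
  · intro i
    refine (funext fun h => ?_ : (_ : Sec x Q (U i)) = _)
    exact key _ _ _ h.down
  · intro t ht
    refine (funext fun h => ?_ : (_ : Sec x Q (iSup U)) = _)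
    exact congrFun (ht (Opens.mem_iSup.mp h.down).choose : (_ : Sec x Q _) = _)
      ⟨(Opens.mem_iSup.mp h.down).choose_spec⟩

/-- The skyscraper module. -/
noncomputable def sky : SMod X := ⟨skyPre x Q, skyAb_isSheaf x Q⟩

end Sky

section HomEquiv

variable {x : X} {Q : Type u} [AddCommGroup Q] [Module (X.presheaf.stalk x) Q]

/-- The linear map out of the stalk given by a morphism to the skyscraper. -/
noncomputable def ofSkyPre {P : PMod X} (g : P ⟶ skyPre x Q) :
    (psh P).stalk x →ₗ[X.presheaf.stalk x] Q :=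
  stalkDescₗ P x Q
    (fun U hU => (Pi.evalAddMonoidHom (fun _ : PLift (x ∈ U) => Q) ⟨hU⟩).comp
      ((g.app (op U)).hom.toAddMonoidHom : P.obj (op U) →+ Sec x Q U))
    (fun U V i hU s => congrFun
      (PresheafOfModules.naturality_apply g i.op s : (_ : Sec x Q U) = _) ⟨hU⟩)
    (fun U hU r s => congrFun ((g.app (op U)).hom.map_smul r s : (_ : Sec x Q U) = _) ⟨hU⟩)

theorem ofSkyPre_germ {P : PMod X} (g : P ⟶ skyPre x Q) (U : Opens X) (hU : x ∈ U)
    (s : (psh P).obj (op U)) :
    ofSkyPre g ((psh P).germ U x hU s) = (g.app (op U) s : Sec x Q U) ⟨hU⟩ :=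
  stalkDescₗ_germ P x Q _ _ _ U hU s

/-- The morphism to the skyscraper given by a linear map out of the stalk. -/
noncomputable def toSkyPre {P : PMod X}
    (g : (psh P).stalk x →ₗ[X.presheaf.stalk x] Q) : P ⟶ skyPre x Q where
  app U := ModuleCat.ofHom
    { toFun := fun s => (fun h => g ((psh P).germ U.unop x h.down s) : Sec x Q U.unop)
      map_add' := fun s t => by
        refine (funext fun h => ?_ : (_ : Sec x Q U.unop) = _)
        exact (congrArg g (((psh P).germ U.unop x h.down).hom.map_add s t)).trans (g.map_add _ _)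
      map_smul' := fun r s => by
        refine (funext fun h => ?_ : (_ : Sec x Q U.unop) = _)
        refine (congrArg g (pre_germ_smul P x U.unop h.down r s)).trans ?_
        exact g.map_smul _ _ }
  naturality {U V} f := by
    ext s
    refine (funext fun h => ?_ : (_ : Sec x Q V.unop) = _)
    exact congrArg g (TopCat.Presheaf.germ_res_apply (psh P) f.unop x h.down s)

theorem toSkyPre_app_apply {P : PMod X}
    (g : (psh P).stalk x →ₗ[X.presheaf.stalk x] Q) (U : Opens X) (s : (psh P).obj (op U))
    (h : PLift (x ∈ U)) :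
    ((toSkyPre g).app (op U) s : Sec x Q U) h = g ((psh P).germ U x h.down s) := rfl

theorem ofSkyPre_toSkyPre {P : PMod X}
    (g : (psh P).stalk x →ₗ[X.presheaf.stalk x] Q) : ofSkyPre (toSkyPre g) = g := by
  ext t
  obtain ⟨U, hU, s, rfl⟩ := TopCat.Presheaf.exists_germ_eq (psh P) t
  rw [ofSkyPre_germ, toSkyPre_app_apply]

theorem toSkyPre_ofSkyPre {P : PMod X} (g : P ⟶ skyPre x Q) :
    toSkyPre (ofSkyPre g) = g := by
  ext U s
  refine (funext fun h => ?_ : (_ : Sec x Q U.unop) = _)
  exact ofSkyPre_germ g U.unop h.down s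

/-- The linear map out of the stalk given by a morphism to the skyscraper (sheaf level). -/
noncomputable def ofSky {M : SMod X} (g : M ⟶ sky x Q) :
    (pr M).stalk x →ₗ[X.presheaf.stalk x] Q :=
  ofSkyPre (P := M.val) g.val

/-- The map on sections of a morphism of modules. -/
noncomputable def app {M N : SMod X} (φ : M ⟶ N) (U : Opens X) :
    (pr M).obj (op U) →ₗ[X.presheaf.obj (op U)] (pr N).obj (op U) :=
  (φ.val.app (op U)).hom

theorem app_res {M N : SMod X} (φ : M ⟶ N) {U V : Opens X} (i : U ⟶ V)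
    (s : (pr M).obj (op V)) :
    app φ U ((pr M).map i.op s) = (pr N).map i.op (app φ V s) :=
  PresheafOfModules.naturality_apply φ.val i.op s

theorem ofSky_germ {M : SMod X} (g : M ⟶ sky x Q) (U : Opens X) (hU : x ∈ U)
    (s : (pr M).obj (op U)) :
    ofSky g ((pr M).germ U x hU s) = (app g U s : Sec x Q U) ⟨hU⟩ :=
  ofSkyPre_germ (P := M.val) g.val U hU s

/-- The morphism to the skyscraper given by a linear map out of the stalk (sheaf level). -/
noncomputable def toSky {M : SMod X} (g : (pr M).stalk x →ₗ[X.presheaf.stalk x] Q) :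
    M ⟶ sky x Q :=
  ⟨toSkyPre (P := M.val) g⟩

theorem toSky_app_apply {M : SMod X} (g : (pr M).stalk x →ₗ[X.presheaf.stalk x] Q)
    (U : Opens X) (s : (pr M).obj (op U)) (h : PLift (x ∈ U)) :
    (app (toSky g) U s : Sec x Q U) h = g ((pr M).germ U x h.down s) := rfl

theorem ofSky_toSky {M : SMod X} (g : (pr M).stalk x →ₗ[X.presheaf.stalk x] Q) :
    ofSky (toSky g) = g :=
  ofSkyPre_toSkyPre (P := M.val) g

theorem toSky_ofSky {M : SMod X} (g : M ⟶ sky x Q) : toSky (ofSky g) = g :=
  SheafOfModules.hom_ext (toSkyPre_ofSkyPre (P := M.val) g.val)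

end HomEquiv

section StalkMap

theorem hom_ext {M N : SMod X} {φ ψ : M ⟶ N} (h : ∀ U, app φ U = app ψ U) : φ = ψ := by
  apply SheafOfModules.hom_ext
  ext U s
  exact LinearMap.congr_fun (h U.unop) s

/-- The map on stalks induced by a morphism of modules. -/
noncomputable def stalkMap {M N : SMod X} (φ : M ⟶ N) (x : X) :
    (pr M).stalk x →ₗ[X.presheaf.stalk x] (pr N).stalk x :=
  stalkDescₗ M.val x ((pr N).stalk x)
    (fun U hU => ((pr N).germ U x hU).hom.comp (app φ U).toAddMonoidHom)
    (fun U V i hU s => by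
      exact (congrArg ((pr N).germ U x hU) (app_res φ i s)).trans
        (TopCat.Presheaf.germ_res_apply (pr N) i x hU (app φ V s)))
    (fun U hU r s => (congrArg ((pr N).germ U x hU) ((app φ U).map_smul r s)).trans
      (pre_germ_smul N.val x U hU r (app φ U s)))

theorem stalkMap_germ {M N : SMod X} (φ : M ⟶ N) (x : X) (U : Opens X) (hU : x ∈ U)
    (s : (pr M).obj (op U)) :
    stalkMap φ x ((pr M).germ U x hU s) = (pr N).germ U x hU (app φ U s) :=
  stalkDescₗ_germ M.val x _ _ _ _ U hU s

theorem stalkMap_eq {M N : SMod X} (φ : M ⟶ N) (x : X) (t : (pr M).stalk x) :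
    stalkMap φ x t = (TopCat.Presheaf.stalkFunctor Ab x).map
      ((PresheafOfModules.toPresheaf _).map φ.val) t := by
  obtain ⟨U, hU, s, rfl⟩ := TopCat.Presheaf.exists_germ_eq (pr M) t
  rw [stalkMap_germ]
  exact (TopCat.Presheaf.stalkFunctor_map_germ_apply U x hU
    ((PresheafOfModules.toPresheaf _).map φ.val) s).symm

theorem stalkMap_id (M : SMod X) (x : X) : stalkMap (𝟙 M) x = LinearMap.id := by
  ext t
  obtain ⟨U, hU, s, rfl⟩ := TopCat.Presheaf.exists_germ_eq (pr M) t
  rw [stalkMap_germ]; rfl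

theorem stalkMap_comp {M N K : SMod X} (φ : M ⟶ N) (ψ : N ⟶ K) (x : X) :
    stalkMap (φ ≫ ψ) x = (stalkMap ψ x).comp (stalkMap φ x) := by
  ext t
  obtain ⟨U, hU, s, rfl⟩ := TopCat.Presheaf.exists_germ_eq (pr M) t
  rw [LinearMap.comp_apply, stalkMap_germ, stalkMap_germ, stalkMap_germ]; rfl

theorem stalkMap_comp_apply {M N K : SMod X} (φ : M ⟶ N) (ψ : N ⟶ K) (x : X)
    (t : (pr M).stalk x) : stalkMap (φ ≫ ψ) x t = stalkMap ψ x (stalkMap φ x t) := by
  rw [stalkMap_comp]; rfl

/-- Isomorphic modules have isomorphic stalks. -/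
noncomputable def stalkIso {M N : SMod X} (e : M ≅ N) (x : X) :
    (pr M).stalk x ≃ₗ[X.presheaf.stalk x] (pr N).stalk x :=
  LinearEquiv.ofLinearMap (stalkMap e.hom x) (stalkMap e.inv x)
    (by rw [← stalkMap_comp, e.inv_hom_id, stalkMap_id])
    (by rw [← stalkMap_comp, e.hom_inv_id, stalkMap_id])

end StalkMap

end K941.Sky
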